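import Groth.Agent.H4DR.Hom.Split
import Groth.Agent.H05EGA4.Regular

/-!
# Morphisms in `D(R)` over a regular ring of dimension `d`
-/

set_option autoImplicit false
set_option linter.style.haveILetI false

universe u

open CategoryTheory CategoryTheory.Limits Pretriangulated
open Groth.Agent.H16Derived

attribute [local instance] HasDerivedCategory.standard

namespace Groth.Agent.H4DR.Hom

open Groth.Agent.H4DR.TorAmp (IsProjRep)

variable {R : Type u} [CommRing R]

/-- A regular ring of dimension `d` has global dimension at most `d`. -/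
theorem hasProjectiveDimensionLT_of_regular [IsNoetherianRing R]
    (hreg : ∀ p : PrimeSpectrum R, IsRegularLocalRing (Localization.AtPrime p.asIdeal)) {d : ℕ}
    (hd : ringKrullDim R = d) (M : ModuleCat.{u} R) : HasProjectiveDimensionLT M (d + 1) := by
  refine H05EGA4.hasProjectiveDimensionLT_of_cyclic d (fun I => ?_) M
  refine (ModuleCat.hasProjectiveDimensionLE_iff_forall_maximalSpectrum d _).2 fun m => ?_
  haveI := hreg ⟨m.asIdeal, m.isMaximal.isPrime⟩
  obtain ⟨e, he, hk⟩ := H05EGA4.exists_pd_residueField (Localization.AtPrime m.asIdeal)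
  have hed : (e : WithBot ℕ∞) ≤ d := by
    rw [← he, ← hd, IsLocalization.AtPrime.ringKrullDim_eq_height m.asIdeal]
    exact Ideal.height_le_ringKrullDim_of_ne_top m.isMaximal.ne_top
  exact @hasProjectiveDimensionLT_of_ge _ _ _ _ (e + 1) (d + 1) (by norm_cast at hed; omega)
    (H05EGA4.hasProjectiveDimensionLT_of_residueField e hk _)

/-- Exactness lowers the projective dimension of the cokernels by one each step. -/
theorem projective_coker_of_pd {P : DRing.Cx R} {c : ℤ} (hP : IsProjRep P c) : ∀ (n : ℕ) (i : ℤ),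
    HasProjectiveDimensionLT (coker P i) (n + 1) →
      (∀ j, i - n ≤ j → j < i → P.ExactAt j) → Module.Projective R (coker P (i - n))
  | 0, i, h, _ => by
    rw [zero_add, ← projective_iff_hasProjectiveDimensionLT_one] at h
    rw [Nat.cast_zero, sub_zero, IsProjective.iff_projective]
    exact h
  | n + 1, i, h, hex => by
    obtain ⟨j, rfl⟩ : ∃ j, i = j + 1 := ⟨i - 1, by omega⟩
    rw [show j + 1 - ((n + 1 : ℕ) : ℤ) = j - n by push_cast; ring]
    refine projective_coker_of_pd hP n j ?_ fun k h1 h2 => hex k (by omega) (by omega)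
    let f : coker P j →ₗ[R] P.X (j + 1) := Submodule.liftQ _ (P.d j (j + 1)).hom fun x ⟨y, hy⟩ =>
      LinearMap.mem_ker.2 (hy ▸ congr($(P.d_comp_d (j - 1) j (j + 1)).hom y))
    have hS : (ShortComplex.mk (ModuleCat.ofHom f) (cokerπ P (j + 1)) (ModuleCat.hom_ext
        (Submodule.linearMap_qext _ (LinearMap.ext fun x =>
          (Submodule.Quotient.mk_eq_zero _).2 (by rw [range_d P j (j + 1) rfl]; exact ⟨x, rfl⟩))))).ShortExact := by
      refine ModuleCat.shortComplex_shortExact _ ?_ ?_ (Submodule.mkQ_surjective _)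
      · intro y
        show (Submodule.Quotient.mk y = (0 : coker P (j + 1))) ↔ y ∈ Set.range f
        refine ((Submodule.Quotient.mk_eq_zero _).trans (Iff.of_eq (congrArg (y ∈ ·) (range_d P j (j + 1) rfl)))).trans ?_
        refine ⟨fun ⟨x, hx⟩ => ⟨Submodule.Quotient.mk x, hx⟩, fun ⟨x, hx⟩ => ?_⟩
        obtain ⟨x, rfl⟩ := Submodule.mkQ_surjective _ x
        exact ⟨x, hx⟩
      · refine (injective_iff_map_eq_zero f).2 fun x hx => ?_
        obtain ⟨x, rfl⟩ := Submodule.mkQ_surjective _ x
        have he := (HomologicalComplex.exactAt_iff' P (j - 1) j (j + 1) (by simp) (by simp)).1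
          (hex j (by omega) (by omega))
        rw [ShortComplex.ShortExact.moduleCat_exact_iff_function_exact] at he
        exact (Submodule.Quotient.mk_eq_zero _).2 ((he x).1 hx)
    haveI := hP.proj (j + 1)
    exact (hS.hasProjectiveDimensionLT_X₃_iff n
      ((IsProjective.iff_projective _).1 (hP.proj (j + 1)))).1 h

/-- Morphisms from degrees `> k` to degrees `≤ k - d` vanish. -/
theorem subsingleton_hom_of_pd {d : ℕ} (hd : ∀ M : ModuleCat.{u} R, HasProjectiveDimensionLT M (d + 1))
    {K L : Dual.D R} (hKb : ∃ b : ℤ, ∀ i : ℤ, b < i → Subsingleton (Dual.HD R K i)) (k : ℤ)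
    (hK : ∀ i : ℤ, i ≤ k → Subsingleton (Dual.HD R K i))
    (hL : ∀ i : ℤ, k - d + 1 ≤ i → Subsingleton (Dual.HD R L i)) : Subsingleton (K ⟶ L) := by
  obtain ⟨b, hb⟩ := hKb
  obtain ⟨P, hP, ⟨e⟩⟩ := TorAmp.exists_projRep hb
  have hco := projective_coker_of_pd hP d (k + 1) (hd _) fun j _ hj =>
    exactAt_of_subsingleton e (hK j (by omega))
  obtain ⟨hv, hp⟩ := truncGE_projective hP hco
  haveI : P.IsGE (k + 1 - d) := (CochainComplex.isGE_iff P _).2 fun i hi =>
    exactAt_of_subsingleton e (hK i (by omega))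
  exact (S6990.result R (k + 1 - d) b K ⟨_, hv, hp,
    ⟨(asIso (DerivedCategory.Q.map (P.πTruncGE _))).symm ≪≫ e⟩⟩ L).1 fun i hi => hL i (by omega)

/-- When the cohomology vanishes in `[a, a')`, `τ_{< a} = τ_{< a'}`. -/
theorem exists_truncLTIso' (a a' : ℤ) (h : a ≤ a') {K : Dual.D R}
    (hK : ∀ i, a ≤ i → i < a' → Subsingleton (Dual.HD R K i)) :
    ∃ e : ((DerivedCategory.TStructure.t : Triangulated.TStructure (Dual.D R)).truncLT a).obj K ≅
        ((DerivedCategory.TStructure.t : Triangulated.TStructure (Dual.D R)).truncLT a').obj K,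
      e.hom ≫ ((DerivedCategory.TStructure.t : Triangulated.TStructure (Dual.D R)).truncLTι a').app K =
        ((DerivedCategory.TStructure.t : Triangulated.TStructure (Dual.D R)).truncLTι a).app K := by
  obtain ⟨n, rfl⟩ := Int.le.dest h
  clear h
  induction n with
  | zero => rw [Nat.cast_zero, add_zero]; exact ⟨Iso.refl _, Category.id_comp _⟩
  | succ n ih =>
    obtain ⟨e, he⟩ := ih fun i h1 h2 => hK i h1 (by omega)
    obtain ⟨e', he'⟩ := exists_truncLTIso (a + n) (hK (a + n) (by omega) (by omega))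
    rw [show a + ((n + 1 : ℕ) : ℤ) = a + n + 1 by push_cast; ring]
    exact ⟨e ≪≫ e', by rw [Iso.trans_hom, Category.assoc, he', he]⟩

end Groth.Agent.H4DR.Hom
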