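import Groth.Agent.H4DR.Hom.Basic
import Groth.Agent.H4DR.PCoh.Attach

/-!
# Two-term complexes and projective amplitude
-/

set_option autoImplicit false
set_option linter.style.haveILetI false

universe u

open CategoryTheory CategoryTheory.Limits Pretriangulated
open Groth.Agent.H16Derived

attribute [local instance] HasDerivedCategory.standard

namespace Groth.Agent.H4DR.Hom

open Groth.Agent.H4DR.TorAmp (IsProjRep)

variable {R : Type u} [CommRing R]

/-- A map out of `K'` killed by `α : K ⟶ K'` vanishes. -/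
theorem eq_zero_of_comp {K K' L : Dual.D R} (n : ℤ) (α : K ⟶ K') (hα : PCoh.Good n α)
    (hL : ∀ i, i < n → Subsingleton (Dual.HD R L i)) (g : K' ⟶ L) (hg : α ≫ g = 0) : g = 0 := by
  obtain ⟨C, β, h, hT⟩ := distinguished_cocone_triangle α
  obtain ⟨η, hη⟩ := Triangle.yoneda_exact₂ _ hT g hg
  have hC := (PCoh.good_iff_cone n _ hT).1 hα
  rw [eq_zero_of_lt (n - 1) n (by omega) (fun i hi => hC i (by omega)) hL η] at hη
  exact hη.trans comp_zero

lemma good_of_iso_epi {K K' : Dual.D R} (α : K ⟶ K')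
    (hK : ∀ i : ℤ, i ≠ -1 → i ≠ 0 → Subsingleton (Dual.HD R K i))
    (hK' : ∀ i : ℤ, i ≠ -1 → i ≠ 0 → Subsingleton (Dual.HD R K' i))
    (h0 : IsIso ((DerivedCategory.homologyFunctor (ModuleCat.{u} R) 0).map α))
    (h1 : Epi ((DerivedCategory.homologyFunctor (ModuleCat.{u} R) (-1)).map α)) :
    PCoh.Good (-1) α := by
  have hb := (ConcreteCategory.isIso_iff_bijective _).1 h0
  refine ⟨fun i hi => ?_, fun i hi => ?_⟩
  · rcases eq_or_ne i (-1) with rfl | hne
    · exact (ModuleCat.epi_iff_surjective _).1 h1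
    rcases eq_or_ne i 0 with rfl | hne'
    · exact hb.2
    haveI := hK' i hne hne'
    exact fun y => ⟨0, Subsingleton.elim _ _⟩
  · rcases eq_or_ne i 0 with rfl | hne'
    · exact hb.1
    haveI := hK i (by omega) hne'
    exact fun x y _ => Subsingleton.elim x y

/-- `φ ≫ ψ = 0` when `H^0 φ = 0` and `H^{-1} ψ = 0`. -/
theorem comp_eq_zero {K₁ K₂ K₃ : Dual.D R} (φ : K₁ ⟶ K₂) (ψ : K₂ ⟶ K₃)
    (h₁ : ∀ i : ℤ, i ≠ -1 → i ≠ 0 → Subsingleton (Dual.HD R K₁ i))
    (h₂ : ∀ i : ℤ, i ≠ -1 → i ≠ 0 → Subsingleton (Dual.HD R K₂ i))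
    (h₃ : ∀ i : ℤ, i ≠ -1 → i ≠ 0 → Subsingleton (Dual.HD R K₃ i))
    (hφ : (DerivedCategory.homologyFunctor (ModuleCat.{u} R) 0).map φ = 0)
    (hψ : (DerivedCategory.homologyFunctor (ModuleCat.{u} R) (-1)).map ψ = 0) :
    φ ≫ ψ = 0 := by
  let T := (DerivedCategory.TStructure.t.triangleLTGE 0).obj K₂
  have hT : T ∈ distTriang _ := DerivedCategory.TStructure.t.triangleLTGE_distinguished 0 K₂
  haveI : DerivedCategory.IsGE T.obj₃ 0 := inferInstanceAs (DerivedCategory.TStructure.t.IsGE _ 0)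
  haveI : DerivedCategory.IsLE T.obj₁ (-1) :=
    DerivedCategory.TStructure.t.isLE_truncLT_obj K₂ 0 (-1) (by omega)
  have hlt : ∀ i, -1 < i → Subsingleton (Dual.HD R T.obj₁ i) := fun i hi =>
    ModuleCat.subsingleton_of_isZero (DerivedCategory.isZero_of_isLE T.obj₁ (-1) i hi)
  have hge : ∀ i, i < 0 → Subsingleton (Dual.HD R T.obj₃ i) := fun i hi =>
    ModuleCat.subsingleton_of_isZero (DerivedCategory.isZero_of_isGE T.obj₃ 0 i hi)
  have h0 : φ ≫ T.mor₂ = 0 := eq_zero_of_HD 0 (fun i hi => h₁ i (by omega) (by omega)) hge _ (by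
    exact (Functor.map_comp _ φ T.mor₂).trans ((congrArg (· ≫ _) hφ).trans zero_comp))
  obtain ⟨φ', hφ'⟩ := Triangle.coyoneda_exact₂ T hT φ h0
  have h1 : T.mor₁ ≫ ψ = 0 := eq_zero_of_HD (-1) hlt (fun i hi => h₃ i (by omega) (by omega)) _ (by
    exact (Functor.map_comp _ T.mor₁ ψ).trans ((congrArg (_ ≫ ·) hψ).trans comp_zero))
  rw [hφ']
  exact (Category.assoc _ _ _).trans ((congrArg (φ' ≫ ·) h1).trans comp_zero)

/-- A bounded above representative by free modules. -/
lemma exists_freeRep {K : Dual.D R} {c : ℤ} (hc : ∀ i, c < i → Subsingleton (Dual.HD R K i)) :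
    ∃ P : DRing.Cx R, IsProjRep P c ∧ (∀ i, Module.Free R (P.X i)) ∧
      Nonempty (DRing.toD P ≅ K) := by
  haveI : K.IsLE c := (DerivedCategory.isLE_iff K c).2 fun i hi =>
    ModuleCat.isZero_of_iff_subsingleton.2 (hc i hi)
  obtain ⟨L, hL, ⟨e⟩⟩ := DerivedCategory.exists_iso_Q_obj_of_isLE K c
  obtain ⟨Q, α, h₁, h₂, -, hα⟩ := Resolution.exists_left_resolution
    (fun M : ModuleCat.{u} R => Module.Free R M)
    ⟨ModuleCat.of R PUnit.{u + 1}, ModuleCat.isZero_of_subsingleton _, inferInstance⟩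
    (fun X => ⟨ModuleCat.of R (X →₀ R), ModuleCat.ofHom (Finsupp.linearCombination R id),
      inferInstanceAs (Module.Free R (X →₀ R)),
      (ModuleCat.epi_iff_surjective _).2 (Finsupp.linearCombination_surjective _ Function.surjective_id)⟩)
    L c
  haveI := hα
  exact ⟨Q, ⟨fun i hi => Q.isZero_of_isStrictlyLE c i hi, fun i => haveI := h₂ i; inferInstance⟩, h₂,
    ⟨asIso (DerivedCategory.Q.map α) ≪≫ e.symm⟩⟩

lemma exactAt_of_subsingleton {P : DRing.Cx R} {K : Dual.D R} (e : DRing.toD P ≅ K) {i : ℤ}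
    (h : Subsingleton (Dual.HD R K i)) : P.ExactAt i := by
  rw [HomologicalComplex.exactAt_iff_isZero_homology]
  haveI := h
  haveI : Subsingleton (Dual.HD R (DRing.toD P) i) := (PCoh.hEquiv i e).injective.subsingleton
  exact (@ModuleCat.isZero_of_subsingleton R _ ((PCoh.H R i).obj (DRing.toD P)) ‹_›).of_iso
    ((DerivedCategory.homologyFunctorFactors (ModuleCat.{u} R) i).app P).symm

theorem exists_twoTerm (K : Dual.D R)
    (hK : ∀ i : ℤ, i ≠ -1 → i ≠ 0 → Subsingleton (Dual.HD R K i)) :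
    ∃ E : DRing.Cx R, DRing.VanishesOutside E (-1) 0 ∧ Module.Free R (E.X 0) ∧
      Nonempty (DRing.toD E ≅ K) := by
  obtain ⟨P, hP, hfree, ⟨e⟩⟩ := exists_freeRep (c := 0) fun i hi => hK i (by omega) (by omega)
  haveI : P.IsGE (-1) := (CochainComplex.isGE_iff P (-1)).2 fun i hi =>
    exactAt_of_subsingleton e (hK i (by omega) (by omega))
  refine ⟨P.truncGE (-1), fun i hi => ?_, ?_,
    ⟨(asIso (DerivedCategory.Q.map (P.πTruncGE (-1)))).symm ≪≫ e⟩⟩
  · rcases hi with hi | hi
    · exact (P.truncGE (-1)).isZero_of_isStrictlyGE (-1) i hi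
    · exact (hP.above i hi).of_iso (P.truncGEXIso (-1) i (by omega))
  · haveI := hfree 0
    exact Module.Free.of_equiv (P.truncGEXIso (-1) 0 (by omega)).toLinearEquiv.symm

theorem exists_twoTerm_finite [IsNoetherianRing R] (K : Dual.D R)
    (hK : ∀ i : ℤ, i ≠ -1 → i ≠ 0 → Subsingleton (Dual.HD R K i))
    (h1 : Module.Finite R (Dual.HD R K (-1))) (h0 : Module.Finite R (Dual.HD R K 0)) :
    ∃ E : DRing.Cx R, DRing.VanishesOutside E (-1) 0 ∧ Module.Free R (E.X 0) ∧
      Module.Finite R (E.X 0) ∧ Module.Finite R (E.X (-1)) ∧ Nonempty (DRing.toD E ≅ K) := by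
  obtain ⟨n, f, hf⟩ := PCoh.exists_map_freeAt K 0
  let F : Dual.D R := DRing.toD (PCoh.freeAt (R := R) n 0)
  obtain ⟨C, g, h, hT⟩ := distinguished_cocone_triangle₁ f
  have hC : ∀ i, i ≠ 0 → Subsingleton (Dual.HD R C i) := fun i hi => by
    by_cases h' : i = 1
    · subst h'
      refine subsingleton_of_forall_eq 0 fun x => ?_
      obtain ⟨y, rfl⟩ := (PCoh.ex₁ _ hT 0 1 rfl x).1
        (@Subsingleton.elim _ (PCoh.subsingleton_HD_freeAt n 0 1 one_ne_zero) _ _)
      obtain ⟨z, rfl⟩ := hf y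
      exact (PCoh.ex₃ _ hT 0 1 rfl).apply_apply_eq_zero z
    · exact PCoh.subsingleton₁ _ hT (i - 1) i (by omega) (hK (i - 1) (by omega) (by omega))
        (PCoh.subsingleton_HD_freeAt n 0 i hi)
  haveI : DerivedCategory.IsLE C 0 := (DerivedCategory.isLE_iff C 0).2 fun i hi =>
    ModuleCat.isZero_of_iff_subsingleton.2 (hC i (by omega))
  haveI : DerivedCategory.IsGE C 0 := (DerivedCategory.isGE_iff C 0).2 fun i hi =>
    ModuleCat.isZero_of_iff_subsingleton.2 (hC i (by omega))
  obtain ⟨Y, ⟨eY⟩⟩ := DerivedCategory.exists_iso_singleFunctor_obj_of_isGE_of_isLE C 0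
  have hY : Module.Finite R Y := by
    haveI := h1
    haveI : Module.Finite R (Dual.HD R C 0) := by
      haveI : Module.Finite R (Dual.HD R (Triangle.mk g f h).obj₂ 0) :=
        PCoh.finite_HD_freeAt (R := R) n 0 0
      haveI : Module.Finite R (Dual.HD R (Triangle.mk g f h).obj₃ (-1)) := h1
      exact PCoh.finite_of_exact _ _ (PCoh.ex₁ _ hT (-1) 0 rfl) (IsNoetherian.noetherian _)
    exact Module.Finite.equiv (PCoh.hEquiv 0 eY ≪≫ₗ PCoh.HDinD Y)
  let eC : C ≅ DRing.toD (sgl 0 Y) := eY ≪≫ PCoh.inDIso Y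
  obtain ⟨a, ha⟩ := (DerivedCategory.singleFunctor (ModuleCat.{u} R) 0).map_surjective
    (eY.inv ≫ g ≫ (PCoh.inDIso (ModuleCat.of R (Fin n → R))).inv)
  let g₀ := (HomologicalComplex.single (ModuleCat.{u} R) (ComplexShape.up ℤ) 0).map a
  have hg₀ : eC.hom ≫ DerivedCategory.Q.map g₀ = g := by
    have hn := (DerivedCategory.singleFunctorIsoCompQ (ModuleCat.{u} R) 0).hom.naturality a
    rw [ha] at hn
    show (eY ≪≫ PCoh.inDIso Y).hom ≫ _ = _
    rw [Iso.trans_hom, Category.assoc]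
    refine (congrArg (eY.hom ≫ ·) hn.symm).trans ?_
    simp [PCoh.inDIso]
    (try erw [Category.assoc])
    erw [Iso.inv_hom_id_app]
    exact Category.comp_id g
  let T' := DerivedCategory.Q.mapTriangle.obj (CochainComplex.mappingCone.triangle g₀)
  have hT' : T' ∈ distTriang _ := (DerivedCategory.mem_distTriang_iff _).2 ⟨_, _, g₀, ⟨Iso.refl _⟩⟩
  let φ := completeDistinguishedTriangleMorphism (Triangle.mk g f h) T' hT hT' eC.hom (𝟙 F)
    (by exact (Category.comp_id _).trans hg₀.symm)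
  have h3 : IsIso φ.hom₃ := isIso₃_of_isIso₁₂ φ hT hT' (inferInstanceAs (IsIso eC.hom))
    (inferInstanceAs (IsIso (𝟙 F)))
  let B := fun i : ℤ => HomologicalComplex.homotopyCofiber.XIsoBiprod g₀ i (i + 1) rfl
  have z0 : IsZero ((sgl 0 Y).X ((0 : ℤ) + 1)) :=
    HomologicalComplex.isZero_single_obj_X _ _ _ _ (by omega)
  have z1 : IsZero ((sgl 0 (ModuleCat.of R (Fin n → R))).X (-1 : ℤ)) :=
    HomologicalComplex.isZero_single_obj_X _ _ _ _ (by omega)
  let e0 : (CochainComplex.mappingCone g₀).X 0 ≅ ModuleCat.of R (Fin n → R) :=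
    B 0 ≪≫ (isoZeroBiprod z0).symm ≪≫
      HomologicalComplex.singleObjXSelf (ComplexShape.up ℤ) 0 (ModuleCat.of R (Fin n → R))
  let e1 : (CochainComplex.mappingCone g₀).X (-1) ≅ Y :=
    B (-1) ≪≫ (isoBiprodZero z1).symm ≪≫ HomologicalComplex.singleObjXSelf (ComplexShape.up ℤ) 0 Y
  refine ⟨CochainComplex.mappingCone g₀, fun i hi => ?_, Module.Free.of_equiv e0.toLinearEquiv.symm,
    Module.Finite.equiv e0.toLinearEquiv.symm, Module.Finite.equiv e1.toLinearEquiv.symm,
    ⟨(@asIso _ _ _ _ φ.hom₃ h3).symm⟩⟩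
  exact IsZero.of_iso ((biprod_isZero_iff _ _).2
    ⟨HomologicalComplex.isZero_single_obj_X _ _ _ _ (by omega),
      HomologicalComplex.isZero_single_obj_X _ _ _ _ (by omega)⟩) (B i)

lemma range_d (P : DRing.Cx R) (i n : ℤ) (h : i + 1 = n) :
    LinearMap.range (P.d (n - 1) n).hom = LinearMap.range (P.d i n).hom := by
  subst h
  rw [add_sub_cancel_right]

/-- The top homology is the cokernel. -/
noncomputable def homologyTopIso {P : DRing.Cx R} (n : ℤ) (h : IsZero (P.X (n + 1))) :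
    P.homology n ≅ coker P n :=
  haveI : IsIso (P.homologyι n) := P.isIso_homologyι n (n + 1) (by simp) (h.eq_of_tgt _ _)
  asIso (P.homologyι n) ≪≫ IsColimit.coconePointUniqueUpToIso (P.opcyclesIsCokernel (n - 1) n (by simp))
    (ModuleCat.cokernelIsColimit (P.d (n - 1) n))

/-- The projective representative with the same truncation. -/
lemma truncGE_projective {P : DRing.Cx R} {b a : ℤ} (hP : IsProjRep P b)
    (hco : Module.Projective R (coker P a)) :
    DRing.VanishesOutside (P.truncGE a) a b ∧ ∀ i, Module.Projective R ((P.truncGE a).X i) := by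
  refine ⟨fun i hi => ?_, fun i => ?_⟩
  · rcases hi with hi | hi
    · exact (P.truncGE a).isZero_of_isStrictlyGE a i hi
    · rcases lt_trichotomy a i with h | rfl | h
      · exact (hP.above i hi).of_iso (P.truncGEXIso a i h)
      · haveI := ModuleCat.subsingleton_of_isZero (hP.above a hi)
        haveI : Subsingleton (coker P a) := (Submodule.mkQ_surjective _).subsingleton
        exact (ModuleCat.isZero_of_subsingleton (coker P a)).of_iso (P.truncGEXIsoOpcycles a ≪≫
          IsColimit.coconePointUniqueUpToIso (P.opcyclesIsCokernel (a - 1) a (by simp))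
            (ModuleCat.cokernelIsColimit (P.d (a - 1) a)))
      · exact (P.truncGE a).isZero_of_isStrictlyGE a i h
  · rcases lt_trichotomy a i with h | rfl | h
    · haveI := hP.proj i
      exact Module.Projective.of_equiv (P.truncGEXIso a i h).toLinearEquiv.symm
    · haveI : Module.Projective R (ModuleCat.cokernelCocone (P.d (a - 1) a)).pt := hco
      exact Module.Projective.of_equiv (P.truncGEXIsoOpcycles a ≪≫
          IsColimit.coconePointUniqueUpToIso (P.opcyclesIsCokernel (a - 1) a (by simp))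
            (ModuleCat.cokernelIsColimit (P.d (a - 1) a))).toLinearEquiv.symm
    · haveI := ModuleCat.subsingleton_of_isZero ((P.truncGE a).isZero_of_isStrictlyGE a i h)
      infer_instance

/-- The projective coker from a factorization of the projection one step below. -/
lemma projective_coker_of_factor {P : DRing.Cx R} {b a a' : ℤ} (hP : IsProjRep P b) (ha : a' + 1 = a)
    (k : P.X (a' + 1) ⟶ coker P a') (hk : cokerπ P a' = P.d a' (a' + 1) ≫ k) :
    Module.Projective R (coker P a) := by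
  subst ha
  haveI := hP.proj (a' + 1)
  let dbar : coker P a' →ₗ[R] P.X (a' + 1) := Submodule.liftQ _ (P.d a' (a' + 1)).hom fun x ⟨y, hy⟩ =>
    LinearMap.mem_ker.2 (hy ▸ congr($(P.d_comp_d (a' - 1) a' (a' + 1)).hom y))
  have hr : ∀ x, (dbar ∘ₗ k.hom) x ∈ LinearMap.range (P.d a' (a' + 1)).hom := fun x => by
    obtain ⟨y, hy⟩ := Submodule.mkQ_surjective _ (k.hom x)
    exact ⟨y, (congrArg dbar hy : (P.d a' (a' + 1)).hom y = dbar (k.hom x))⟩
  have hrd : ∀ y, (dbar ∘ₗ k.hom) ((P.d a' (a' + 1)).hom y) = (P.d a' (a' + 1)).hom y := fun y =>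
    (congrArg dbar (congr($(hk).hom y)).symm : dbar (k.hom ((P.d a' (a' + 1)).hom y)) = _)
  have e : a' + 1 - 1 = a' := by omega
  refine projective_coker (a' + 1) (dbar ∘ₗ k.hom) ?_ ?_
  · rw [e]; exact hr
  · rw [e]; exact hrd

theorem projective_iff_ext_one (K : Dual.D R)
    (hK : ∀ i : ℤ, i ≠ -1 → i ≠ 0 → Subsingleton (Dual.HD R K i)) :
    (Subsingleton (Dual.HD R K (-1)) ∧ Module.Projective R (Dual.HD R K 0)) ↔
      ∀ (M : Type u) [AddCommGroup M] [Module R M],
        Subsingleton (K ⟶ (Dual.inD R M)⟦(1 : ℤ)⟧) := by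
  obtain ⟨P, hP, ⟨e⟩⟩ := TorAmp.exists_projRep (c := 0) fun i hi => hK i (by omega) (by omega)
  let e₀ : Dual.HD R K 0 ≃ₗ[R] coker P 0 := PCoh.hEquiv 0 e.symm ≪≫ₗ
    ((DerivedCategory.homologyFunctorFactors (ModuleCat.{u} R) 0).app P ≪≫
      homologyTopIso 0 (hP.above 1 one_pos)).toLinearEquiv
  refine ⟨fun ⟨h1, h0⟩ M _ _ => ?_, fun h => ?_⟩
  · refine (subsingleton_iff_factor hP e (ModuleCat.of R M) (-1) 1 (by omega)).2 fun φ hφ => ?_
    have hex := (HomologicalComplex.exactAt_iff' P (-1 - 1) (-1) 0 (by simp) (by simp)).1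
      (exactAt_of_subsingleton e h1)
    rw [ShortComplex.ShortExact.moduleCat_exact_iff_function_exact] at hex
    let d := (P.d (-1) 0).hom
    have hle : LinearMap.ker d ≤ LinearMap.ker φ.hom := fun x hx => by
      obtain ⟨y, rfl⟩ := (hex x).1 (LinearMap.mem_ker.1 hx)
      exact LinearMap.mem_ker.2 (congr($(hφ).hom y))
    haveI : Module.Projective R (coker P 0) := Module.Projective.of_equiv e₀
    obtain ⟨s, hs⟩ := Module.projective_lifting_property
      (LinearMap.range (P.d (0 - 1) 0).hom).mkQ LinearMap.id (Submodule.mkQ_surjective _)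
    let q : P.X 0 →ₗ[R] LinearMap.range d := (LinearMap.id -
      s ∘ₗ (LinearMap.range (P.d (0 - 1) 0).hom).mkQ).codRestrict _ fun x => by
        have h := congr($hs (Submodule.Quotient.mk x))
        show x - s (Submodule.Quotient.mk x) ∈ LinearMap.range d
        rw [← range_d P (-1) 0 (by omega)]
        exact (Submodule.Quotient.eq _).1 h.symm
    have hq : ∀ x, q (d x) = ⟨d x, LinearMap.mem_range_self d x⟩ := fun x => Subtype.ext (by
      show d x - s (Submodule.Quotient.mk (d x)) = d x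
      rw [(Submodule.Quotient.mk_eq_zero (LinearMap.range (P.d (0 - 1) 0).hom)).2
        (by rw [range_d P (-1) 0 (by omega)]; exact ⟨x, rfl⟩), map_zero, sub_zero])
    refine ⟨ModuleCat.ofHom ((Submodule.liftQ _ φ.hom hle) ∘ₗ d.quotKerEquivRange.symm.toLinearMap ∘ₗ q),
      ModuleCat.hom_ext (LinearMap.ext fun x => ?_)⟩
    show φ.hom x = Submodule.liftQ _ φ.hom hle (d.quotKerEquivRange.symm (q (d x)))
    rw [hq, LinearMap.quotKerEquivRange_symm_apply_image, Submodule.mkQ_apply,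
      Submodule.liftQ_apply]
  · obtain ⟨k, hk⟩ := (subsingleton_iff_factor hP e (coker P (-1)) (-1) 1 (by omega)).1
      (h (coker P (-1))) (cokerπ P (-1)) (d_cokerπ P (-1))
    haveI : Subsingleton (Dual.HD R (DRing.toD P) (-1)) := ModuleCat.subsingleton_of_isZero
      ((exactAt_of_factor (𝟙 _) k (by rwa [Category.comp_id])).isZero_homology.of_iso
        ((DerivedCategory.homologyFunctorFactors (ModuleCat.{u} R) (-1)).app P))
    refine ⟨(PCoh.hEquiv (-1) e.symm).injective.subsingleton, ?_⟩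
    haveI := hP.proj 0
    let dbar : coker P (-1) →ₗ[R] P.X 0 := Submodule.liftQ _ (P.d (-1) 0).hom fun x ⟨y, hy⟩ =>
      LinearMap.mem_ker.2 (hy ▸ congr($(P.d_comp_d (-1 - 1) (-1) 0).hom y))
    haveI := projective_coker_of_factor (a := 0) (a' := -1) hP (by omega) k hk
    exact Module.Projective.of_equiv e₀.symm

/-- Multiplication by `a` on a two-term complex kills `Ext^1` iff it is null-homotopic in degree `-1`. -/
theorem annihilates_iff (I : Ideal R) (K : Dual.D R)
    (hK : ∀ i : ℤ, i ≠ -1 → i ≠ 0 → Subsingleton (Dual.HD R K i)) :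
    (∀ (N : Type u) [AddCommGroup N] [Module R N] (a : R), a ∈ I →
        ∀ ξ : K ⟶ (Dual.inD R N)⟦(1 : ℤ)⟧, a • ξ = 0) ↔
      ∀ (E : DRing.Cx R), DRing.VanishesOutside E (-1) 0 → Module.Projective R (E.X 0) →
        Nonempty (DRing.toD E ≅ K) → ∀ a : R, a ∈ I →
          ∃ h : E.X 0 ⟶ E.X (-1), E.d (-1) 0 ≫ h = a • 𝟙 (E.X (-1)) := by
  constructor
  · intro hI E hE _ ⟨eE⟩ a ha
    obtain ⟨P, hP, ⟨eP⟩⟩ := TorAmp.exists_projRep (c := 0) fun i hi => hK i (by omega) (by omega)
    haveI := hP.isKProjective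
    obtain ⟨f, hf⟩ := ProjLift.Q_map_surjective P E (eP.hom ≫ eE.inv)
    haveI : IsIso (DerivedCategory.Q.map f) := hf ▸ inferInstance
    let hid : E.d (-1 - 1) (-1) ≫ 𝟙 (E.X (-1)) = 0 := (hE _ (Or.inl (by omega))).eq_of_src _ _
    let ξ : K ⟶ (Dual.inD R (E.X (-1)))⟦(1 : ℤ)⟧ :=
      eE.inv ≫ DerivedCategory.Q.map (toSgl (𝟙 _) hid) ≫ (shiftInDIso (E.X (-1)) (-1) 1 (by omega)).inv
    have h0 : a • DerivedCategory.Q.map (toSgl (𝟙 (E.X (-1))) hid) = 0 := by
      have h := hI (E.X (-1)) a ha ξ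
      apply (cancel_epi eE.inv).1
      apply (cancel_mono (shiftInDIso (E.X (-1)) (-1) 1 (by omega)).inv).1
      rw [comp_zero, zero_comp, Linear.comp_smul, Linear.smul_comp, Category.assoc]
      exact h
    let φ : P.X (-1) ⟶ E.X (-1) := a • f.f (-1)
    have hφ : P.d (-1 - 1) (-1) ≫ φ = 0 := by
      rw [Linear.comp_smul, ← f.comm, (hE (-1 - 1) (Or.inl (by omega))).eq_of_tgt (f.f (-1 - 1)) 0,
        zero_comp, smul_zero]
    have h1 : DerivedCategory.Q.map (toSgl φ hφ) = 0 := by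
      have e1 : toSgl φ hφ = a • (f ≫ toSgl (𝟙 _) hid) := HomologicalComplex.to_single_hom_ext (by
        rw [HomologicalComplex.smul_f_apply, HomologicalComplex.comp_f, toSgl_f, toSgl_f,
          Category.id_comp]
        exact Linear.smul_comp _ _ _ _ _ _)
      rw [e1, Functor.map_smul, Functor.map_comp, ← Linear.comp_smul, h0, comp_zero]
    obtain ⟨k, hk⟩ := (Q_toSgl_eq_zero_iff hP φ hφ).1 h1
    haveI : QuasiIso f := (DerivedCategory.isIso_Q_map_iff_quasiIso (φ := f)).1 inferInstance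
    let hA : (P.X 0 × E.X (-1)) →ₗ[R] E.X 0 :=
      (f.f 0).hom.coprod (E.d (-1) 0).hom
    have hA' : Function.Surjective hA := fun y => by
      obtain ⟨i, hsq⟩ := top_naturality f 0 (hP.above 1 one_pos) (hE 1 (Or.inr one_pos))
      obtain ⟨z, hz⟩ := Submodule.mkQ_surjective _ (i.inv.hom ((cokerπ E 0).hom y))
      have hy : (cokerπ E 0).hom (y - (f.f 0).hom z) = 0 := by
        rw [map_sub, sub_eq_zero]
        refine Eq.trans ?_ (congr($(hsq).hom z))
        refine Eq.trans ?_ (congrArg i.hom.hom hz.symm)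
        exact (congr($(i.inv_hom_id).hom ((cokerπ E 0).hom y))).symm
      have hy' := (Submodule.Quotient.mk_eq_zero _).1 hy
      rw [range_d E (-1) 0 (by omega)] at hy'
      obtain ⟨w, hw⟩ := hy'
      refine ⟨(z, w), ?_⟩
      show (f.f 0).hom z + (E.d (-1) 0).hom w = y
      rw [show (E.d (-1) 0).hom w = y - (f.f 0).hom z from hw, add_sub_cancel]
    obtain ⟨s, hs⟩ := Module.projective_lifting_property hA LinearMap.id hA'
    refine ⟨ModuleCat.ofHom (k.hom ∘ₗ LinearMap.fst R _ _ ∘ₗ s + a • (LinearMap.snd R _ _ ∘ₗ s)), ?_⟩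
    refine ModuleCat.hom_ext (LinearMap.ext fun x => ?_)
    show k.hom (s ((E.d (-1) 0).hom x)).1 + a • (s ((E.d (-1) 0).hom x)).2 = a • x
    set p := (s ((E.d (-1) 0).hom x)).1
    set w := (s ((E.d (-1) 0).hom x)).2
    have hpw : (f.f 0).hom p + (E.d (-1) 0).hom w = (E.d (-1) 0).hom x :=
      congr($hs ((E.d (-1) 0).hom x))
    obtain ⟨q, hq1, hq2⟩ := exists_lift f hP hE x w p hpw
    rw [hq1, show k.hom ((P.d (-1) 0).hom q) = a • (f.f (-1)).hom q from (congr($(hk).hom q)).symm,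
      ← smul_add, hq2]
  · intro h N _ _ a ha ξ
    obtain ⟨E, hE, hfree, ⟨eE⟩⟩ := exists_twoTerm K hK
    obtain ⟨k, hk⟩ := h E hE (inferInstanceAs (Module.Projective R (E.X 0))) ⟨eE⟩ a ha
    let ι := shiftInDIso (ModuleCat.of R N) (-1) 1 (by omega)
    obtain ⟨u, hu⟩ := exists_chain_map hE (eE.hom ≫ ξ ≫ ι.hom)
    obtain ⟨φ, hφ, rfl⟩ := exists_toSgl_of_hom u
    have hφ' : E.d (-1 - 1) (-1) ≫ (a • φ) = 0 := by rw [Linear.comp_smul, hφ, smul_zero]
    have e1 : a • toSgl φ hφ = toSgl (a • φ) hφ' := HomologicalComplex.to_single_hom_ext (by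
      rw [HomologicalComplex.smul_f_apply, toSgl_f, toSgl_f]
      exact (Linear.smul_comp _ _ _ _ _ _).symm)
    have h0 : DerivedCategory.Q.map (toSgl (a • φ) hφ') = 0 :=
      Q_toSgl_eq_zero (k ≫ φ) (by
        show a • φ = E.d (-1) 0 ≫ k ≫ φ
        rw [← Category.assoc, hk, Linear.smul_comp, Category.id_comp])
    rw [← e1, Functor.map_smul, hu] at h0
    apply (cancel_epi eE.hom).1
    apply (cancel_mono ι.hom).1
    rw [comp_zero, zero_comp, Linear.comp_smul, Linear.smul_comp, Category.assoc]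
    exact h0
where
  top_naturality {P E : DRing.Cx R} (f : P ⟶ E) [QuasiIso f] (n : ℤ) (hP : IsZero (P.X (n + 1)))
      (hE : IsZero (E.X (n + 1))) :
      ∃ i : coker P n ≅ coker E n, cokerπ P n ≫ i.hom = f.f n ≫ cokerπ E n := by
    haveI : IsIso (P.homologyι n) := P.isIso_homologyι n (n + 1) (by simp) (hP.eq_of_tgt _ _)
    haveI : IsIso (E.homologyι n) := E.isIso_homologyι n (n + 1) (by simp) (hE.eq_of_tgt _ _)
    haveI : IsIso (HomologicalComplex.opcyclesMap f n) := by
      have h := HomologicalComplex.homologyι_naturality f n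
      rw [← IsIso.inv_comp_eq] at h
      rw [← h]; infer_instance
    have c1 : cokerπ P n ≫
        (IsColimit.coconePointUniqueUpToIso (P.opcyclesIsCokernel (n - 1) n (by simp))
          (ModuleCat.cokernelIsColimit (P.d (n - 1) n))).inv = P.pOpcycles n :=
      IsColimit.comp_coconePointUniqueUpToIso_inv _ (ModuleCat.cokernelIsColimit (P.d (n - 1) n))
        WalkingParallelPair.one
    have c2 : E.pOpcycles n ≫
        (IsColimit.coconePointUniqueUpToIso (E.opcyclesIsCokernel (n - 1) n (by simp))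
          (ModuleCat.cokernelIsColimit (E.d (n - 1) n))).hom = cokerπ E n :=
      IsColimit.comp_coconePointUniqueUpToIso_hom _ (ModuleCat.cokernelIsColimit (E.d (n - 1) n))
        WalkingParallelPair.one
    refine ⟨(IsColimit.coconePointUniqueUpToIso (P.opcyclesIsCokernel (n - 1) n (by simp))
          (ModuleCat.cokernelIsColimit (P.d (n - 1) n))).symm ≪≫
        asIso (HomologicalComplex.opcyclesMap f n) ≪≫
        IsColimit.coconePointUniqueUpToIso (E.opcyclesIsCokernel (n - 1) n (by simp))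
          (ModuleCat.cokernelIsColimit (E.d (n - 1) n)), ?_⟩
    exact ((Category.assoc _ _ _).symm.trans (congrArg (· ≫ _) c1)).trans
      ((HomologicalComplex.p_opcyclesMap_assoc f n _).trans (congrArg (f.f n ≫ ·) c2))
  exists_lift {P E : DRing.Cx R} (f : P ⟶ E) [QuasiIso f] (hP : IsProjRep P 0)
      (hE : DRing.VanishesOutside E (-1) 0) (x w : E.X (-1)) (p : P.X 0)
      (hpw : (f.f 0).hom p + (E.d (-1) 0).hom w = (E.d (-1) 0).hom x) :
      ∃ q : P.X (-1), p = (P.d (-1) 0).hom q ∧ (f.f (-1)).hom q + w = x := by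
    have hp : (cokerπ P 0).hom p = 0 := by
      obtain ⟨i, hn⟩ := top_naturality f 0 (hP.above 1 one_pos) (hE 1 (Or.inr one_pos))
      refine i.toLinearEquiv.injective ((congr($(hn).hom p)).trans ((Submodule.Quotient.mk_eq_zero _).2 ?_)
        |>.trans (map_zero _).symm)
      rw [range_d E (-1) 0 (by omega)]
      exact ⟨x - w, by
        show (E.d (-1) 0).hom (x - w) = (f.f 0).hom p
        rw [map_sub, ← hpw, add_sub_cancel_right]⟩
    have hp' := (Submodule.Quotient.mk_eq_zero _).1 hp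
    rw [range_d P (-1) 0 (by omega)] at hp'
    obtain ⟨q, hq⟩ := hp'
    have hq' : (P.d (-1) 0).hom q = p := hq
    let c : E.X (-1) := x - w - (f.f (-1)).hom q
    have hc : (E.d (-1) 0).hom c = 0 := by
      have h := congr($(f.comm (-1) 0).hom q)
      change (E.d (-1) 0).hom ((f.f (-1)).hom q) = (f.f 0).hom ((P.d (-1) 0).hom q) at h
      rw [hq'] at h
      simp only [c, map_sub, h, ← hpw]
      abel
    obtain ⟨z, hz1, hz2⟩ := exists_cycle_lift f hE c hc
    refine ⟨q + z, ?_, ?_⟩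
    · rw [map_add, hz1, add_zero, hq']
    · rw [map_add, hz2]; simp only [c]; abel
  exists_cycle_lift {P E : DRing.Cx R} (f : P ⟶ E) [QuasiIso f]
      (hE : DRing.VanishesOutside E (-1) 0) (c : E.X (-1)) (hc : (E.d (-1) 0).hom c = 0) :
      ∃ z : P.X (-1), (P.d (-1) 0).hom z = 0 ∧ (f.f (-1)).hom z = c := by
    have hk : ModuleCat.ofHom (LinearMap.toSpanSingleton R (E.X (-1)) c) ≫ E.d (-1) 0 = 0 :=
      ModuleCat.hom_ext (LinearMap.ext_ring (by simpa using hc))
    let ζ : ModuleCat.of R R ⟶ E.homology (-1) :=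
      E.liftCycles _ 0 (by simp) hk ≫ E.homologyπ (-1)
    haveI : Epi (P.homologyπ (-1)) := inferInstance
    let t := (ζ ≫ inv (HomologicalComplex.homologyMap f (-1))).hom 1
    obtain ⟨y, hy⟩ := (ModuleCat.epi_iff_surjective (P.homologyπ (-1))).1 inferInstance t
    refine ⟨(P.iCycles (-1)).hom y, congr($(P.iCycles_d (-1) 0).hom y), ?_⟩
    haveI : IsIso (E.homologyπ (-1)) := E.isIso_homologyπ (-1 - 1) (-1) (by simp)
      ((hE (-1 - 1) (Or.inl (by omega))).eq_of_src _ _)
    have h2 : (E.homologyπ (-1)).hom ((HomologicalComplex.cyclesMap f (-1)).hom y) =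
        (E.homologyπ (-1)).hom ((E.liftCycles _ 0 (by simp) hk).hom 1) := by
      have h3 := congr($(HomologicalComplex.homologyπ_naturality f (-1)).hom y)
      refine h3.symm.trans ((congrArg (HomologicalComplex.homologyMap f (-1)).hom hy).trans ?_)
      exact congr($(IsIso.inv_hom_id (HomologicalComplex.homologyMap f (-1))).hom (ζ.hom 1))
    have h4 := ((ConcreteCategory.isIso_iff_bijective (E.homologyπ (-1))).1 inferInstance).1 h2
    have h5 := congrArg (E.iCycles (-1)).hom h4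
    refine (congr($(HomologicalComplex.cyclesMap_i f (-1)).hom y)).symm.trans (h5.trans ?_)
    exact (congr($(E.liftCycles_i _ 0 (by simp) hk).hom 1)).trans (one_smul R c)
  exists_chain_map {E : DRing.Cx R} (hE : DRing.VanishesOutside E (-1) 0) [Module.Free R (E.X 0)]
      {N : ModuleCat.{u} R} (f : DRing.toD E ⟶ DRing.toD (sgl (-1) N)) :
      ∃ u : E ⟶ sgl (-1) N, DerivedCategory.Q.map u = f := by
    let B := KFlat.Brutal.ι E 0
    have hBz : ∀ q, q ≠ 0 → IsZero ((KFlat.Brutal.geq E 0).X q) := fun q hq => by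
      by_cases h : 0 ≤ q
      · have := KFlat.Brutal.isIso_ι_f E 0 h
        exact (hE q (Or.inr (by omega))).of_iso (asIso (B.f q))
      · exact KFlat.Brutal.isZero_geq E _ (by omega)
    have hB : IsProjRep (KFlat.Brutal.geq E 0) 0 := ⟨fun i hi => hBz i (by omega), fun i => by
      by_cases h : i = 0
      · subst h
        have := KFlat.Brutal.isIso_ι_f E 0 (le_refl 0)
        exact Module.Projective.of_equiv (asIso (B.f 0)).toLinearEquiv.symm
      · haveI := ModuleCat.subsingleton_of_isZero (hBz i h); infer_instance⟩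
    obtain ⟨ψ, hψ, hψ'⟩ := exists_toSgl hB (DerivedCategory.Q.map B ≫ f)
    have h0 : DerivedCategory.Q.map B ≫ f = 0 := by
      obtain rfl : ψ = 0 := (hBz (-1) (by omega)).eq_of_src ψ 0
      rw [← hψ']
      exact Q_toSgl_eq_zero 0 (by rw [comp_zero])
    obtain ⟨η, hη⟩ := Triangle.yoneda_exact₂ _
      (DerivedCategory.triangleOfSES_distinguished (KFlat.Brutal.shortExact E 0)) f h0
    let C := cokernel B
    have hCz : ∀ q, q ≠ -1 → IsZero (C.X q) := fun q hq => by
      by_cases h : q < 0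
      · exact KFlat.Brutal.isZero_cokernel' E _ (hE q (Or.inl (by omega)))
      · exact KFlat.Brutal.isZero_cokernel E _ (not_lt.1 h)
    haveI : C.IsStrictlyGE (-1) := (CochainComplex.isStrictlyGE_iff _ _).2 fun q hq => hCz q (by omega)
    haveI : C.IsStrictlyLE (-1) := (CochainComplex.isStrictlyLE_iff _ _).2 fun q hq => hCz q (by omega)
    obtain ⟨Y, ⟨eY⟩⟩ := CochainComplex.exists_iso_single C (-1)
    let sQ := DerivedCategory.singleFunctorIsoCompQ (ModuleCat.{u} R) (-1)
    obtain ⟨m, hm⟩ := (DerivedCategory.singleFunctor (ModuleCat.{u} R) (-1)).map_surjective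
      ((sQ.app Y).hom ≫ DerivedCategory.Q.map eY.inv ≫ η ≫ (sQ.app N).inv)
    refine ⟨cokernel.π B ≫ eY.hom ≫ (HomologicalComplex.single _ _ (-1)).map m, ?_⟩
    have hn := sQ.hom.naturality m
    rw [hm] at hn
    rw [Functor.map_comp, Functor.map_comp]
    have key : DerivedCategory.Q.map ((HomologicalComplex.single _ _ (-1)).map m) =
        DerivedCategory.Q.map eY.inv ≫ η := by
      apply (cancel_epi (sQ.app Y).hom).1
      refine hn.symm.trans ?_
      simp
      (try erw [Category.assoc])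
      erw [Iso.inv_hom_id_app]
      exact congrArg (sQ.hom.app Y ≫ DerivedCategory.Q.map eY.inv ≫ ·) (Category.comp_id η)
    refine (congrArg (DerivedCategory.Q.map (cokernel.π B) ≫ ·) ?_).trans hη.symm
    exact (congrArg (DerivedCategory.Q.map eY.hom ≫ ·) key).trans
      (Iso.hom_inv_id_assoc (DerivedCategory.Q.mapIso eY) η)

theorem projAmp_tfae (K : Dual.D R) (a b : ℤ) :
    [∃ P : DRing.Cx R, DRing.VanishesOutside P a b ∧ (∀ i : ℤ, Module.Projective R (P.X i)) ∧
        Nonempty (DRing.toD P ≅ K),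
      ∀ (N : Type u) [AddCommGroup N] [Module R N] (i : ℤ), (i < -b ∨ -a < i) →
        Subsingleton (DRing.ExtD R K (Dual.inD R N) i),
      (∀ n : ℤ, b < n → Subsingleton (Dual.HD R K n)) ∧
        ∀ (N : Type u) [AddCommGroup N] [Module R N] (i : ℤ), -a < i →
          Subsingleton (DRing.ExtD R K (Dual.inD R N) i),
      (∀ n : ℤ, (n < a - 1 ∨ b < n) → Subsingleton (Dual.HD R K n)) ∧
        ∀ (N : Type u) [AddCommGroup N] [Module R N],
          Subsingleton (DRing.ExtD R K (Dual.inD R N) (-a + 1))].TFAE := by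
  tfae_have 1 → 2 := by
    rintro ⟨P, hP, hp, ⟨e⟩⟩ N _ _ i hi
    refine (subsingleton_iff_factor ⟨fun j hj => hP j (Or.inr hj), hp⟩ e (ModuleCat.of R N) (-i) i
      (by omega)).2 fun φ _ => ⟨0, ?_⟩
    rw [comp_zero]
    exact (hP (-i) (by omega)).eq_of_src _ _
  tfae_have 2 → 3 := fun h => ⟨fun n hn => subsingleton_HD_of_hom K n (-n) (by omega) fun N =>
    h N (-n) (by omega), fun N _ _ i hi => h N i (Or.inr hi)⟩
  tfae_have 3 → 4 := fun ⟨h1, h2⟩ => ⟨fun n hn => hn.elim (fun hn =>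
    subsingleton_HD_of_hom K n (-n) (by omega) fun N => h2 N (-n) (by omega)) (h1 n),
    fun N _ _ => h2 N (-a + 1) (by omega)⟩
  tfae_have 4 → 1 := by
    rintro ⟨h1, h2⟩
    obtain ⟨P, hP, ⟨e⟩⟩ := TorAmp.exists_projRep (c := b) fun i hi => h1 i (Or.inr hi)
    obtain ⟨k, hk⟩ := (subsingleton_iff_factor hP e (coker P (a - 1)) (a - 1) (-a + 1) (by omega)).1
      (h2 (coker P (a - 1))) (cokerπ P (a - 1)) (d_cokerπ P (a - 1))
    have hex : P.ExactAt (a - 1) := exactAt_of_factor (𝟙 _) k (by rwa [Category.comp_id])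
    haveI : P.IsGE a := (CochainComplex.isGE_iff P a).2 fun i hi => by
      by_cases hi' : i = a - 1
      · exact hi' ▸ hex
      · exact exactAt_of_subsingleton e (h1 i (Or.inl (by omega)))
    obtain ⟨h3, h4⟩ := truncGE_projective hP (projective_coker_of_factor (a := a) (a' := a - 1) hP (by omega) k hk)
    exact ⟨_, h3, h4, ⟨(asIso (DerivedCategory.Q.map (P.πTruncGE a))).symm ≪≫ e⟩⟩
  tfae_finish

end Groth.Agent.H4DR.Hom
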