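import Groth.Agent.H4DR.Hom.Basic
import Mathlib.Algebra.Homology.ShortComplex.Linear

/-!
# Cohomology is linear
-/

set_option autoImplicit false

universe u

open CategoryTheory CategoryTheory.Limits

attribute [local instance] HasDerivedCategory.standard

namespace Groth.Agent.H4DR.Hom

variable {R : Type u} [CommRing R]

lemma homologyMap_smul {K L : DRing.Cx R} (r : R) (f : K ⟶ L) (i : ℤ) :
    HomologicalComplex.homologyMap (r • f) i = r • HomologicalComplex.homologyMap f i := by
  change ShortComplex.homologyMap
      ((HomologicalComplex.shortComplexFunctor (ModuleCat.{u} R) (ComplexShape.up ℤ) i).map (r • f)) = _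
  rw [show (HomologicalComplex.shortComplexFunctor (ModuleCat.{u} R) (ComplexShape.up ℤ) i).map (r • f) =
      r • (HomologicalComplex.shortComplexFunctor (ModuleCat.{u} R) (ComplexShape.up ℤ) i).map f from
      ShortComplex.hom_ext _ _ rfl rfl rfl, ShortComplex.homologyMap_smul]
  rfl

lemma H_map_smul {X Y : Dual.D R} (r : R) (f : X ⟶ Y) (i : ℤ) :
    (PCoh.H R i).map (r • f) = r • (PCoh.H R i).map f := by
  let P := DerivedCategory.Q.objPreimage Y
  let e : DerivedCategory.Q.obj P ≅ Y := DerivedCategory.Q.objObjPreimageIso Y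
  let η := DerivedCategory.homologyFunctorFactors (ModuleCat.{u} R) i
  have hQ : (PCoh.H R i).map (r • 𝟙 (DerivedCategory.Q.obj P)) = r • 𝟙 _ := by
    rw [← CategoryTheory.Functor.map_id DerivedCategory.Q, ← Functor.map_smul]
    apply (cancel_mono (η.app P).hom).1
    refine (η.hom.naturality (r • 𝟙 P)).trans ?_
    show _ ≫ HomologicalComplex.homologyMap (r • 𝟙 P) i = _
    rw [homologyMap_smul, HomologicalComplex.homologyMap_id, Linear.smul_comp, Category.id_comp]
    exact (Linear.comp_smul _ _ _ _ _ _).trans (congrArg (r • ·) (Category.comp_id _))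
  have hr : r • f = f ≫ e.inv ≫ (r • 𝟙 (DerivedCategory.Q.obj P)) ≫ e.hom := by
    simp
  rw [hr, Functor.map_comp, Functor.map_comp, Functor.map_comp, hQ, Linear.smul_comp, Category.id_comp,
    Linear.comp_smul, Linear.comp_smul, ← Functor.map_comp, ← Functor.map_comp, Iso.inv_hom_id,
    Category.comp_id]

noncomputable instance (i : ℤ) : Functor.Linear R (PCoh.H R i) where
  map_smul {_ _} f r := H_map_smul r f i

end Groth.Agent.H4DR.Hom
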