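import Groth.Agent.H4DR.TorAmp.Basic
import Mathlib.Algebra.Homology.DerivedCategory.FullyFaithful
import Mathlib.Algebra.Homology.DerivedCategory.Linear
import Mathlib.Algebra.Homology.DerivedCategory.KInjective
import Mathlib.Algebra.Homology.HomotopyCategory.KInjective
import Mathlib.Algebra.Category.ModuleCat.EnoughInjectives

/-!
# Morphisms to a single module in `D(R)`
-/

set_option autoImplicit false
set_option linter.style.haveILetI false

universe u

open CategoryTheory CategoryTheory.Limits Pretriangulated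
open Groth.Agent.H16Derived

attribute [local instance] HasDerivedCategory.standard

namespace Groth.Agent.H4DR.Hom

open Groth.Agent.H4DR.TorAmp (IsProjRep)

variable {R : Type u} [CommRing R]

/-- `N` in degree `n`. -/
noncomputable abbrev sgl (n : ℤ) (N : ModuleCat.{u} R) : DRing.Cx R :=
  (HomologicalComplex.single (ModuleCat.{u} R) (ComplexShape.up ℤ) n).obj N

/-- The map to a single module given by a cocycle. -/
noncomputable def toSgl {P : DRing.Cx R} {n : ℤ} {N : ModuleCat.{u} R} (φ : P.X n ⟶ N)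
    (h : P.d (n - 1) n ≫ φ = 0) : P ⟶ sgl n N :=
  HomologicalComplex.mkHomToSingle φ fun j (hj : j + 1 = n) => by
    obtain rfl : j = n - 1 := by omega
    exact h

@[simp] lemma toSgl_f {P : DRing.Cx R} {n : ℤ} {N : ModuleCat.{u} R} (φ : P.X n ⟶ N)
    (h : P.d (n - 1) n ≫ φ = 0) :
    (toSgl φ h).f n = φ ≫ (HomologicalComplex.singleObjXSelf (ComplexShape.up ℤ) n N).inv :=
  HomologicalComplex.mkHomToSingle_f _ _

lemma exists_toSgl_of_hom {P : DRing.Cx R} {n : ℤ} {N : ModuleCat.{u} R} (g : P ⟶ sgl n N) :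
    ∃ (φ : P.X n ⟶ N) (h : P.d (n - 1) n ≫ φ = 0), g = toSgl φ h := by
  refine ⟨g.f n ≫ (HomologicalComplex.singleObjXSelf (ComplexShape.up ℤ) n N).hom, ?_, ?_⟩
  · rw [← g.comm_assoc, HomologicalComplex.single_obj_d, zero_comp, comp_zero]
  · refine HomologicalComplex.to_single_hom_ext ?_
    rw [toSgl_f, Category.assoc, Iso.hom_inv_id, Category.comp_id]

lemma exists_factor_of_homotopy {P : DRing.Cx R} {n : ℤ} {N : ModuleCat.{u} R} {φ : P.X n ⟶ N}
    {h : P.d (n - 1) n ≫ φ = 0} (H : Homotopy (toSgl φ h) 0) :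
    ∃ k : P.X (n + 1) ⟶ N, φ = P.d n (n + 1) ≫ k := by
  refine ⟨H.hom (n + 1) n ≫ (HomologicalComplex.singleObjXSelf (ComplexShape.up ℤ) n N).hom, ?_⟩
  have hc := H.comm n
  rw [dNext_eq _ (show (ComplexShape.up ℤ).Rel n (n + 1) by simp),
    prevD_eq _ (show (ComplexShape.up ℤ).Rel (n - 1) n by simp), toSgl_f] at hc
  rw [← Category.assoc, ← Iso.comp_inv_eq]
  simpa using hc

lemma Q_toSgl_eq_zero {P : DRing.Cx R} {n : ℤ} {N : ModuleCat.{u} R} {φ : P.X n ⟶ N}
    {h : P.d (n - 1) n ≫ φ = 0} (k : P.X (n + 1) ⟶ N) (hk : φ = P.d n (n + 1) ≫ k) :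
    DerivedCategory.Q.map (toSgl φ h) = 0 := by
  let hh : ∀ i j, (ComplexShape.up ℤ).Rel j i → (P.X i ⟶ (sgl n N).X j) := fun i j hji =>
    if hj : j = n then
      (P.XIsoOfEq (show i = n + 1 by subst hj; exact (show _ + 1 = i from hji).symm)).hom ≫ k ≫
        (HomologicalComplex.singleObjXIsoOfEq (ComplexShape.up ℤ) n N j hj).inv
    else 0
  have e : toSgl φ h = Homotopy.nullHomotopicMap' hh := by
    refine HomologicalComplex.to_single_hom_ext ?_
    rw [Homotopy.nullHomotopicMap'_f (show (ComplexShape.up ℤ).Rel (n - 1) n by simp)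
      (show (ComplexShape.up ℤ).Rel n (n + 1) by simp), toSgl_f, HomologicalComplex.single_obj_d,
      comp_zero, add_zero, hk]
    simp [hh, HomologicalComplex.singleObjXSelf]
  rw [e, DerivedCategory.Q_map_eq_of_homotopy (h := Homotopy.nullHomotopy' hh), Functor.map_zero]

/-- A complex of projectives bounded above: morphisms to a single module are given by cocycles. -/
lemma exists_toSgl {P : DRing.Cx R} {c : ℤ} (hP : IsProjRep P c) {n : ℤ} {N : ModuleCat.{u} R}
    (f : DRing.toD P ⟶ DRing.toD (sgl n N)) :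
    ∃ (φ : P.X n ⟶ N) (h : P.d (n - 1) n ≫ φ = 0), DerivedCategory.Q.map (toSgl φ h) = f := by
  haveI := hP.isKProjective
  obtain ⟨g, hg⟩ := ProjLift.Q_map_surjective P (sgl n N) f
  obtain ⟨φ, h, rfl⟩ := exists_toSgl_of_hom g
  exact ⟨φ, h, hg⟩

lemma Q_toSgl_eq_zero_iff {P : DRing.Cx R} {c : ℤ} (hP : IsProjRep P c) {n : ℤ} {N : ModuleCat.{u} R}
    (φ : P.X n ⟶ N) (h : P.d (n - 1) n ≫ φ = 0) :
    DerivedCategory.Q.map (toSgl φ h) = 0 ↔ ∃ k : P.X (n + 1) ⟶ N, φ = P.d n (n + 1) ≫ k := by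
  refine ⟨fun h0 => ?_, fun ⟨k, hk⟩ => Q_toSgl_eq_zero k hk⟩
  haveI := hP.isKProjective
  obtain ⟨H⟩ := ProjLift.homotopic_of_Q_map P (sgl n N) (toSgl φ h) 0
    (h0.trans (Functor.map_zero _ _ _).symm)
  exact exists_factor_of_homotopy H

/-- `(inD N)⟦i⟧` is `N` in degree `n = -i`. -/
noncomputable def shiftInDIso (N : ModuleCat.{u} R) (n i : ℤ) (h : i + n = 0) :
    (Dual.inD R N)⟦i⟧ ≅ DRing.toD (sgl n N) :=
  eqToIso (by rw [show i = -n by omega]) ≪≫ (PCoh.singleIso N n).symm

lemma subsingleton_shift_iff {K : Dual.D R} (N : ModuleCat.{u} R) (n i : ℤ) (h : i + n = 0) :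
    Subsingleton (K ⟶ (Dual.inD R N)⟦i⟧) ↔ Subsingleton (K ⟶ DRing.toD (sgl n N)) :=
  (Iso.homToEquiv (Z := K) (shiftInDIso N n i h)).subsingleton_congr

lemma subsingleton_iff_factor {K : Dual.D R} {P : DRing.Cx R} {c : ℤ} (hP : IsProjRep P c)
    (e : DRing.toD P ≅ K) (N : ModuleCat.{u} R) (n i : ℤ) (h : i + n = 0) :
    Subsingleton (K ⟶ (Dual.inD R N)⟦i⟧) ↔
      ∀ φ : P.X n ⟶ N, P.d (n - 1) n ≫ φ = 0 → ∃ k : P.X (n + 1) ⟶ N, φ = P.d n (n + 1) ≫ k := by
  rw [subsingleton_shift_iff N n i h,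
    ← (Iso.homFromEquiv (Z := DRing.toD (sgl n N)) e).subsingleton_congr]
  refine ⟨fun hs φ hφ => (Q_toSgl_eq_zero_iff hP φ hφ).1 (Subsingleton.elim _ _), fun hs => ?_⟩
  refine subsingleton_of_forall_eq 0 fun f => ?_
  obtain ⟨φ, hφ, rfl⟩ := exists_toSgl hP f
  exact (Q_toSgl_eq_zero_iff hP φ hφ).2 (hs φ hφ)

/-- The cokernel of the differential into degree `n`. -/
abbrev coker (P : DRing.Cx R) (n : ℤ) : ModuleCat.{u} R :=
  ModuleCat.of R (P.X n ⧸ LinearMap.range (P.d (n - 1) n).hom)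

/-- The projection to it. -/
noncomputable abbrev cokerπ (P : DRing.Cx R) (n : ℤ) : P.X n ⟶ coker P n :=
  ModuleCat.ofHom (LinearMap.range (P.d (n - 1) n).hom).mkQ

lemma d_cokerπ (P : DRing.Cx R) (n : ℤ) : P.d (n - 1) n ≫ cokerπ P n = 0 :=
  ModuleCat.hom_ext (LinearMap.range_mkQ_comp _)

/-- Exactness from a factorization of a monomorphism out of the cokernel. -/
lemma exactAt_of_factor {P : DRing.Cx R} {n : ℤ} {N : ModuleCat.{u} R} (ι : coker P n ⟶ N) [Mono ι]
    (k : P.X (n + 1) ⟶ N) (h : cokerπ P n ≫ ι = P.d n (n + 1) ≫ k) : P.ExactAt n := by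
  rw [HomologicalComplex.exactAt_iff' P (n - 1) n (n + 1) (by simp) (by simp),
    ShortComplex.ShortExact.moduleCat_exact_iff_function_exact]
  intro x
  refine ⟨fun hx => ?_, fun ⟨y, hy⟩ => hy ▸ congr($(P.d_comp_d (n - 1) n (n + 1)).hom y)⟩
  have h1 : ι.hom ((cokerπ P n).hom x) = 0 :=
    (congr($(h).hom x)).trans ((congrArg k.hom hx).trans (map_zero k.hom))
  exact (Submodule.Quotient.mk_eq_zero _).1
    ((injective_iff_map_eq_zero ι.hom).1 ((ModuleCat.mono_iff_injective ι).1 ‹_›) _ h1)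

/-- The cokernel in degree `a` is projective if the image of the differential is a retract. -/
lemma projective_coker {P : DRing.Cx R} (a : ℤ) [Module.Projective R (P.X a)]
    (r : P.X a →ₗ[R] P.X a) (hr : ∀ x, r x ∈ LinearMap.range (P.d (a - 1) a).hom)
    (hrd : ∀ y, r ((P.d (a - 1) a).hom y) = (P.d (a - 1) a).hom y) :
    Module.Projective R (coker P a) := by
  let s : coker P a →ₗ[R] P.X a := Submodule.liftQ _ (LinearMap.id - r) fun x ⟨y, hy⟩ =>
    LinearMap.mem_ker.2 (by rw [LinearMap.sub_apply, LinearMap.id_apply, ← hy, hrd, sub_self])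
  refine Module.Projective.of_split s (LinearMap.range (P.d (a - 1) a).hom).mkQ
    (Submodule.linearMap_qext _ (LinearMap.ext fun x => ?_))
  show Submodule.Quotient.mk (x - r x) = Submodule.Quotient.mk x
  rw [Submodule.Quotient.eq]
  simpa using hr x

/-- A morphism from an object `≤ n` to an object `≥ n` vanishes if its `H^n` does. -/
lemma eq_zero_of_HD {K L : Dual.D R} (n : ℤ) (hK : ∀ i, n < i → Subsingleton (Dual.HD R K i))
    (hL : ∀ i, i < n → Subsingleton (Dual.HD R L i)) (f : K ⟶ L)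
    (hf : (PCoh.H R n).map f = 0) : f = 0 := by
  obtain ⟨P, hP, ⟨e⟩⟩ := TorAmp.exists_projRep hK
  haveI : L.IsGE n := (DerivedCategory.isGE_iff L n).2 fun i hi =>
    ModuleCat.isZero_of_iff_subsingleton.2 (hL i hi)
  obtain ⟨L', hL', ⟨e'⟩⟩ := DerivedCategory.exists_iso_Q_obj_of_isGE L n
  haveI := hL'
  haveI := hP.isKProjective
  obtain ⟨g, hg⟩ := ProjLift.Q_map_surjective P L' (e.hom ≫ f ≫ e'.hom)
  have h1 : HomologicalComplex.homologyMap g n = 0 := by
    have := (DerivedCategory.homologyFunctorFactors (ModuleCat.{u} R) n).hom.naturality g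
    change (PCoh.H R n).map (DerivedCategory.Q.map g) ≫ _ = _ at this
    rw [hg, Functor.map_comp, Functor.map_comp, hf, zero_comp, comp_zero, zero_comp] at this
    exact (cancel_epi ((DerivedCategory.homologyFunctorFactors (ModuleCat.{u} R) n).app P).hom).1
      (this.symm.trans comp_zero.symm)
  have h2 : HomologicalComplex.cyclesMap g n = 0 := by
    have hd : L'.d (n - 1) n = 0 :=
      (L'.isZero_of_isStrictlyGE n (n - 1) (by omega)).eq_of_src _ _
    haveI : IsIso (L'.homologyπ n) := L'.isIso_homologyπ (n - 1) n (by simp) hd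
    rw [← cancel_mono (L'.homologyπ n), ← HomologicalComplex.homologyπ_naturality, h1, comp_zero,
      zero_comp]
  have h3 : g = 0 := HomologicalComplex.hom_ext _ _ fun i => by
    rcases lt_trichotomy i n with h | rfl | h
    · exact (L'.isZero_of_isStrictlyGE n i h).eq_of_tgt _ _
    · have hd : P.d i (i + 1) = 0 := (hP.above (i + 1) (by omega)).eq_of_tgt _ _
      haveI : IsIso (P.iCycles i) := P.isIso_iCycles i (i + 1) (by simp) hd
      rw [← cancel_epi (P.iCycles i), ← HomologicalComplex.cyclesMap_i, h2, zero_comp,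
        HomologicalComplex.zero_f, comp_zero]
    · exact (hP.above i h).eq_of_src _ _
  rw [h3, Functor.map_zero] at hg
  rw [← cancel_epi e.hom, ← cancel_mono e'.hom, Category.assoc, ← hg]
  simp

lemma eq_zero_of_lt {K L : Dual.D R} (n m : ℤ) (h : n < m)
    (hK : ∀ i, n < i → Subsingleton (Dual.HD R K i))
    (hL : ∀ i, i < m → Subsingleton (Dual.HD R L i)) (f : K ⟶ L) : f = 0 := by
  haveI := hL n h
  exact eq_zero_of_HD n hK (fun i hi => hL i (hi.trans h)) f
    (ModuleCat.hom_ext (LinearMap.ext fun _ => Subsingleton.elim (α := Dual.HD R L n) _ _))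

lemma subsingleton_shift_inD (N : ModuleCat.{u} R) (i j : ℤ) (h : i + j ≠ 0) :
    Subsingleton (Dual.HD R ((Dual.inD R N)⟦i⟧) j) :=
  haveI := PCoh.subsingleton_HD_inD N (i + j) h
  (PCoh.hShift (Dual.inD R N) i j (i + j) rfl).injective.subsingleton

/-- If `Hom(K, N[-n]) = 0` for all `N` then `H^n(K) = 0`. -/
theorem subsingleton_HD_of_hom (K : Dual.D R) (n i : ℤ) (hi : i + n = 0)
    (h : ∀ N : ModuleCat.{u} R, Subsingleton (K ⟶ (Dual.inD R N)⟦i⟧)) :
    Subsingleton (Dual.HD R K n) := by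
  let L := DerivedCategory.Q.objPreimage K
  let e : DRing.toD L ≅ K := DerivedCategory.Q.objObjPreimageIso K
  let J := Injective.under (coker L n)
  let φ : L.X n ⟶ J := cokerπ L n ≫ Injective.ι (coker L n)
  have hφ : L.d (n - 1) n ≫ φ = 0 := by rw [← Category.assoc, d_cokerπ, zero_comp]
  haveI : ∀ j, Injective ((sgl n J).X j) := fun j => by
    by_cases hj : j = n
    · subst hj
      exact Injective.of_iso (HomologicalComplex.singleObjXSelf (ComplexShape.up ℤ) j J).symm
        inferInstance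
    · exact (HomologicalComplex.isZero_single_obj_X (ComplexShape.up ℤ) n J j hj).injective
  haveI : CochainComplex.IsStrictlyGE (sgl n J) n := (CochainComplex.isStrictlyGE_iff _ _).2
    fun j hj => HomologicalComplex.isZero_single_obj_X (ComplexShape.up ℤ) n J j (by omega)
  haveI := CochainComplex.isKInjective_of_injective (sgl n J) n
  haveI := (subsingleton_shift_iff J n i hi).1 (h J)
  have h0 : DerivedCategory.Q.map (toSgl φ hφ) = DerivedCategory.Q.map (0 : L ⟶ sgl n J) := by
    rw [Functor.map_zero, ← cancel_epi e.inv]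
    exact Subsingleton.elim _ _
  have h1 : (HomotopyCategory.quotient _ _).map (toSgl φ hφ) = (HomotopyCategory.quotient _ _).map 0 := by
    refine (CochainComplex.IsKInjective.Qh_map_bijective _ (sgl n J)).1 ?_
    rw [← cancel_mono ((DerivedCategory.quotientCompQhIso (ModuleCat.{u} R)).hom.app (sgl n J))]
    refine ((DerivedCategory.quotientCompQhIso (ModuleCat.{u} R)).hom.naturality _).trans ?_
    rw [h0]
    exact ((DerivedCategory.quotientCompQhIso (ModuleCat.{u} R)).hom.naturality _).symm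
  obtain ⟨k, hk⟩ := exists_factor_of_homotopy (HomotopyCategory.homotopyOfEq _ _ h1)
  haveI : Subsingleton (Dual.HD R (DRing.toD L) n) := ModuleCat.subsingleton_of_isZero
    ((exactAt_of_factor (Injective.ι (coker L n)) k hk).isZero_homology.of_iso
      ((DerivedCategory.homologyFunctorFactors (ModuleCat.{u} R) n).app L))
  exact (PCoh.hEquiv n e.symm).injective.subsingleton

end Groth.Agent.H4DR.Hom
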