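import Groth.Agent.H4DR.Hom.TwoTerm
import Groth.Agent.S6990
import Mathlib.CategoryTheory.Triangulated.TStructure.TruncLTGE

/-!
# Splitting off `τ_{≥ a+1}` when `Hom(K, -[-a])` preserves injections
-/

set_option autoImplicit false
set_option linter.style.haveILetI false

universe u

open CategoryTheory CategoryTheory.Limits Pretriangulated
open Groth.Agent.H16Derived

attribute [local instance] HasDerivedCategory.standard

namespace Groth.Agent.H4DR.Hom

open Groth.Agent.H4DR.TorAmp (IsProjRep)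

variable {R : Type u} [CommRing R]

/-- `N[0][i]` is `N` in degree `n = -i`, naturally in `N`. -/
noncomputable def shiftSingleNatIso (n i : ℤ) (h : i + n = 0) :
    DerivedCategory.singleFunctor (ModuleCat.{u} R) 0 ⋙ shiftFunctor (Dual.D R) i ≅
      CochainComplex.singleFunctor (ModuleCat.{u} R) n ⋙ DerivedCategory.Q :=
  (DerivedCategory.singleFunctors (ModuleCat.{u} R)).shiftIso i n 0 h ≪≫
    DerivedCategory.singleFunctorIsoCompQ (ModuleCat.{u} R) n

lemma toSgl_comp_map {P : DRing.Cx R} {n : ℤ} {N N' : ModuleCat.{u} R} (φ : P.X n ⟶ N)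
    (h : P.d (n - 1) n ≫ φ = 0) (g : N ⟶ N') :
    toSgl φ h ≫ (HomologicalComplex.single (ModuleCat.{u} R) (ComplexShape.up ℤ) n).map g =
      toSgl (φ ≫ g) (by rw [← Category.assoc, h, zero_comp]) :=
  HomologicalComplex.to_single_hom_ext (by
    rw [HomologicalComplex.comp_f, toSgl_f, toSgl_f, HomologicalComplex.single_map_f_self]
    simp)

/-- Injectivity of `Hom(K, M[-a]) → Hom(K, M'[-a])` makes the cokernel in degree `a + 1` projective. -/
theorem projective_coker_of_injective {a c : ℤ} {K : Dual.D R} {P : DRing.Cx R} (hP : IsProjRep P c)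
    (e : DRing.toD P ≅ K)
    (h : ∀ (M M' : Type u) [AddCommGroup M] [Module R M] [AddCommGroup M'] [Module R M'] (g : M →ₗ[R] M'),
      Function.Injective g → Function.Injective (fun x : K ⟶ (shiftFunctor (Dual.D R) (-a)).obj (Dual.inD R M) =>
        x ≫ (shiftFunctor (Dual.D R) (-a)).map
          ((DerivedCategory.singleFunctor (ModuleCat.{u} R) 0).map (ModuleCat.ofHom g)))) :
    Module.Projective R (coker P (a + 1)) := by
  haveI := hP.proj (a + 1)
  let d : P.X a →ₗ[R] P.X (a + 1) := (P.d a (a + 1)).hom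
  let B : ModuleCat.{u} R := ModuleCat.of R (LinearMap.range d)
  let g : B ⟶ P.X (a + 1) := ModuleCat.ofHom (LinearMap.range d).subtype
  let φ : P.X a ⟶ B := ModuleCat.ofHom d.rangeRestrict
  have hg : φ ≫ g = P.d a (a + 1) := rfl
  have hφ : P.d (a - 1) a ≫ φ = 0 := ModuleCat.hom_ext (LinearMap.ext fun x => Subtype.ext
    (show (P.d a (a + 1)).hom ((P.d (a - 1) a).hom x) = 0 from
      congr($(P.d_comp_d (a - 1) a (a + 1)).hom x)))
  let ι := shiftSingleNatIso (R := R) a (-a) (neg_add_cancel a)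
  let x : K ⟶ (Dual.inD R B)⟦-a⟧ := e.inv ≫ DerivedCategory.Q.map (toSgl φ hφ) ≫ ι.inv.app B
  have hx : x ≫ (shiftFunctor (Dual.D R) (-a)).map
      ((DerivedCategory.singleFunctor (ModuleCat.{u} R) 0).map g) = 0 := by
    show (e.inv ≫ DerivedCategory.Q.map (toSgl φ hφ) ≫ ι.inv.app B) ≫
      (DerivedCategory.singleFunctor (ModuleCat.{u} R) 0 ⋙ shiftFunctor (Dual.D R) (-a)).map g = 0
    have e1 : DerivedCategory.Q.map (toSgl φ hφ) ≫
        (CochainComplex.singleFunctor (ModuleCat.{u} R) a ⋙ DerivedCategory.Q).map g = 0 :=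
      (DerivedCategory.Q.map_comp (toSgl φ hφ)
        ((HomologicalComplex.single (ModuleCat.{u} R) (ComplexShape.up ℤ) a).map g)).symm.trans
        ((congrArg DerivedCategory.Q.map (toSgl_comp_map φ hφ g)).trans
          (Q_toSgl_eq_zero (𝟙 _) (hg.trans (Category.comp_id _).symm)))
    refine (Category.assoc _ _ _).trans ((congrArg (e.inv ≫ ·) ((Category.assoc _ _ _).trans
      ((congrArg (DerivedCategory.Q.map (toSgl φ hφ) ≫ ·) (ι.inv.naturality g).symm).trans
        ((Category.assoc _ _ _).symm.trans ((congrArg (· ≫ _) e1).trans zero_comp))))).trans comp_zero)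
  have hx0 : x = 0 := h B (P.X (a + 1)) (LinearMap.range d).subtype Subtype.val_injective (a₁ := x) (a₂ := 0)
    (hx.trans zero_comp.symm)
  have h0 : DerivedCategory.Q.map (toSgl φ hφ) = 0 :=
    (cancel_epi e.inv).1 (((cancel_mono (ι.inv.app B)).1
      (((Category.assoc _ _ _).trans hx0).trans zero_comp.symm)).trans comp_zero.symm)
  obtain ⟨k, hk⟩ := (Q_toSgl_eq_zero_iff hP φ hφ).1 h0
  have hr : ∀ x, ((LinearMap.range d).subtype ∘ₗ k.hom) x ∈ LinearMap.range d := fun x => (k.hom x).2
  have hrd : ∀ y, ((LinearMap.range d).subtype ∘ₗ k.hom) (d y) = d y := fun y =>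
    congrArg Subtype.val (congr($(hk).hom y)).symm
  have ea : a + 1 - 1 = a := by omega
  refine projective_coker (a + 1) ((LinearMap.range d).subtype ∘ₗ k.hom) ?_ ?_
  · rw [ea]; exact hr
  · rw [ea]; exact hrd

lemma isIso_H_Q_map {P L : DRing.Cx R} (f : P ⟶ L) (i : ℤ) [QuasiIsoAt f i] :
    IsIso ((PCoh.H R i).map (DerivedCategory.Q.map f)) :=
  (NatIso.isIso_map_iff (DerivedCategory.homologyFunctorFactors (ModuleCat.{u} R) i) f).2
    ((quasiIsoAt_iff_isIso_homologyMap f i).1 ‹_›)

/-- The truncation `τ_{≥ n}` is computed by `truncGE` of a complex. -/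
theorem truncGEIso (n : ℤ) {K : Dual.D R} {P : DRing.Cx R} (e : DRing.toD P ≅ K) :
    Nonempty (DRing.toD (P.truncGE n) ≅
      ((DerivedCategory.TStructure.t : Triangulated.TStructure (Dual.D R)).truncGE n).obj K) := by
  let t : Triangulated.TStructure (Dual.D R) := DerivedCategory.TStructure.t
  let f : K ⟶ DRing.toD (P.truncGE n) := e.inv ≫ DerivedCategory.Q.map (P.πTruncGE n)
  have hY : ∀ i, i < n → Subsingleton (Dual.HD R (DRing.toD (P.truncGE n)) i) := fun i hi =>
    ModuleCat.subsingleton_of_isZero (((HomologicalComplex.exactAt_iff _ _).2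
      (ShortComplex.exact_of_isZero_X₂ _ (by exact (P.truncGE n).isZero_of_isStrictlyGE n i hi))).isZero_homology.of_iso
        ((DerivedCategory.homologyFunctorFactors (ModuleCat.{u} R) i).app _))
  haveI : t.IsGE (DRing.toD (P.truncGE n)) n := (DerivedCategory.isGE_iff _ n).2 fun i hi =>
    ModuleCat.isZero_of_iff_subsingleton.2 (hY i hi)
  haveI : IsIso ((t.truncGEπ n).app (DRing.toD (P.truncGE n))) :=
    (t.isGE_iff_isIso_truncGEπ_app n _).1 inferInstance
  let η : (t.truncGE n).obj K ⟶ DRing.toD (P.truncGE n) :=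
    (t.truncGE n).map f ≫ inv ((t.truncGEπ n).app (DRing.toD (P.truncGE n)))
  have hη : (t.truncGEπ n).app K ≫ η = f := by
    show _ ≫ (t.truncGE n).map f ≫ _ = f
    rw [← NatTrans.naturality_assoc, IsIso.hom_inv_id]
    exact Category.comp_id f
  let T := (t.triangleLTGE n).obj K
  have hT : T ∈ distTriang _ := t.triangleLTGE_distinguished n K
  haveI : DerivedCategory.IsGE T.obj₃ n := inferInstanceAs (t.IsGE _ n)
  haveI : DerivedCategory.IsLE T.obj₁ (n - 1) := t.isLE_truncLT_obj K n (n - 1) (by omega)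
  have hT₁ : ∀ i, n ≤ i → Subsingleton (Dual.HD R T.obj₁ i) := fun i hi =>
    ModuleCat.subsingleton_of_isZero (DerivedCategory.isZero_of_isLE T.obj₁ (n - 1) i (by omega))
  have hT₃ : ∀ i, i < n → Subsingleton (Dual.HD R T.obj₃ i) := fun i hi =>
    ModuleCat.subsingleton_of_isZero (DerivedCategory.isZero_of_isGE T.obj₃ n i hi)
  haveI : IsIso η := by
    rw [DerivedCategory.isIso_iff]
    intro i
    rw [ConcreteCategory.isIso_iff_bijective]
    rcases lt_or_ge i n with hi | hi
    · haveI := hT₃ i hi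
      haveI := hY i hi
      exact ⟨fun x y _ => Subsingleton.elim (α := Dual.HD R T.obj₃ i) x y,
        fun y => ⟨0, Subsingleton.elim (α := Dual.HD R (DRing.toD (P.truncGE n)) i) _ _⟩⟩
    · haveI := P.quasiIsoAt_πTruncGE n i hi
      haveI := isIso_H_Q_map (P.πTruncGE n) i
      have hf : Function.Bijective (PCoh.hm i f) := by
        haveI : IsIso ((PCoh.H R i).map f) := by
          rw [Functor.map_comp]; infer_instance
        exact (ConcreteCategory.isIso_iff_bijective _).1 this
      have hπ : Function.Bijective (PCoh.hm i T.mor₂) := by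
        have hg := (PCoh.good_iff_cone (n - 1) T.rotate (rot_of_distTriang _ hT)).2 fun j hj => by
          haveI := hT₁ (1 + j) (by omega)
          exact (PCoh.hShift T.obj₁ 1 j (1 + j) rfl).injective.subsingleton
        exact ⟨hg.2 i (by omega), hg.1 i (by omega)⟩
      have hc : PCoh.hm i f = (PCoh.hm i η) ∘ₗ (PCoh.hm i T.mor₂) :=
        (congrArg (PCoh.hm i) hη.symm).trans (PCoh.hm_comp i T.mor₂ η)
      exact (Function.Bijective.of_comp_iff (PCoh.hm i η) hπ).1
        ((congrArg (fun l : _ →ₗ[R] _ => ⇑l) hc) ▸ hf :)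
  exact ⟨(asIso η).symm⟩

/-- The splitting. -/
theorem split_of_injective {a : ℤ} {K : Dual.D R}
    (hKb : ∃ b : ℤ, ∀ i : ℤ, b < i → Subsingleton (Dual.HD R K i))
    (h : ∀ (M M' : Type u) [AddCommGroup M] [Module R M] [AddCommGroup M'] [Module R M'] (g : M →ₗ[R] M'),
      Function.Injective g → Function.Injective (fun x : K ⟶ (shiftFunctor (Dual.D R) (-a)).obj (Dual.inD R M) =>
        x ≫ (shiftFunctor (Dual.D R) (-a)).map
          ((DerivedCategory.singleFunctor (ModuleCat.{u} R) 0).map (ModuleCat.ofHom g))))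
    [HasBinaryBiproduct (((DerivedCategory.TStructure.t : Triangulated.TStructure (Dual.D R)).truncLT (a + 1)).obj K) (((DerivedCategory.TStructure.t : Triangulated.TStructure (Dual.D R)).truncGE (a + 1)).obj K)] :
    (∃ e : K ≅ ((DerivedCategory.TStructure.t : Triangulated.TStructure (Dual.D R)).truncLT (a + 1)).obj K ⊞ ((DerivedCategory.TStructure.t : Triangulated.TStructure (Dual.D R)).truncGE (a + 1)).obj K,
      ((DerivedCategory.TStructure.t : Triangulated.TStructure (Dual.D R)).truncLTι (a + 1)).app K ≫ e.hom = biprod.inl ∧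
        e.hom ≫ biprod.snd = ((DerivedCategory.TStructure.t : Triangulated.TStructure (Dual.D R)).truncGEπ (a + 1)).app K) ∧
      ∃ (P : DRing.Cx R) (b : ℤ), DRing.VanishesOutside P (a + 1) b ∧ (∀ i : ℤ, Module.Projective R (P.X i)) ∧
        Nonempty (DRing.toD P ≅ ((DerivedCategory.TStructure.t : Triangulated.TStructure (Dual.D R)).truncGE (a + 1)).obj K) := by
  obtain ⟨b, hb⟩ := hKb
  obtain ⟨P, hP, ⟨e⟩⟩ := TorAmp.exists_projRep hb
  obtain ⟨hv, hp⟩ := truncGE_projective hP (projective_coker_of_injective hP e h)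
  have hrep : ∃ (P : DRing.Cx R), DRing.VanishesOutside P (a + 1) b ∧
      (∀ i : ℤ, Module.Projective R (P.X i)) ∧
      Nonempty (DRing.toD P ≅ ((DerivedCategory.TStructure.t : Triangulated.TStructure (Dual.D R)).truncGE (a + 1)).obj K) :=
    ⟨_, hv, hp, truncGEIso (a + 1) e⟩
  refine ⟨?_, hrep.choose, b, hrep.choose_spec⟩
  let t : Triangulated.TStructure (Dual.D R) := DerivedCategory.TStructure.t
  haveI : DerivedCategory.IsLE ((t.truncLT (a + 1)).obj K) a := t.isLE_truncLT_obj K (a + 1) a (by omega)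
  exact (S6990.result R (a + 1) b _ hrep ((t.truncLT (a + 1)).obj K)).2
    (fun i hi => ModuleCat.subsingleton_of_isZero (DerivedCategory.isZero_of_isLE _ a i (by omega)))
    ((t.triangleLTGE (a + 1)).obj K) (t.triangleLTGE_distinguished (a + 1) K) rfl rfl

/-- When `H^a = 0`, `τ_{< a} = τ_{< a+1}`. -/
theorem exists_truncLTIso (a : ℤ) {K : Dual.D R} (h : Subsingleton (Dual.HD R K a)) :
    ∃ e : ((DerivedCategory.TStructure.t : Triangulated.TStructure (Dual.D R)).truncLT a).obj K ≅
        ((DerivedCategory.TStructure.t : Triangulated.TStructure (Dual.D R)).truncLT (a + 1)).obj K,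
      e.hom ≫ ((DerivedCategory.TStructure.t : Triangulated.TStructure (Dual.D R)).truncLTι (a + 1)).app K =
        ((DerivedCategory.TStructure.t : Triangulated.TStructure (Dual.D R)).truncLTι a).app K := by
  let t : Triangulated.TStructure (Dual.D R) := DerivedCategory.TStructure.t
  let T := (t.triangleLTGE (a + 1)).obj K
  haveI : DerivedCategory.IsGE T.obj₃ (a + 1) := inferInstanceAs (t.IsGE _ (a + 1))
  haveI : DerivedCategory.IsLE T.obj₁ a := t.isLE_truncLT_obj K (a + 1) a (by omega)
  have h1 : t.IsLE T.obj₁ (a - 1) := (DerivedCategory.isLE_iff _ (a - 1)).2 fun i hi => by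
    refine ModuleCat.isZero_of_iff_subsingleton.2 ?_
    rcases eq_or_ne i a with rfl | hne
    · exact PCoh.subsingleton₁ T (t.triangleLTGE_distinguished (i + 1) K) (i - 1) i (by omega)
        (ModuleCat.subsingleton_of_isZero (DerivedCategory.isZero_of_isGE T.obj₃ (i + 1) _ (by omega))) h
    · exact ModuleCat.subsingleton_of_isZero
        (DerivedCategory.isZero_of_isLE T.obj₁ a i (by omega))
  have h3 : t.IsGE T.obj₃ a := (DerivedCategory.isGE_iff _ a).2 fun i hi =>
    DerivedCategory.isZero_of_isGE T.obj₃ (a + 1) i (by omega)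
  obtain ⟨e, he⟩ := t.triangle_iso_exists (t.triangleLTGE_distinguished a K)
    (t.triangleLTGE_distinguished (a + 1) K) (Iso.refl K) (a - 1) a
    (t.isLE_truncLT_obj K a (a - 1) (by omega)) (inferInstanceAs (t.IsGE _ a)) h1 h3
  refine ⟨Triangle.π₁.mapIso e, ?_⟩
  have := e.hom.comm₁
  rw [he] at this
  exact this.symm.trans (Category.comp_id _)

end Groth.Agent.H4DR.Hom
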