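import Groth.Agent.H4DR.Hom.Basic
import Groth.Agent.H4LC.Filtered

/-!
# Morphisms from pseudo-coherent objects to filtered colimits of modules
-/

set_option autoImplicit false
set_option linter.style.haveILetI false
set_option linter.unusedSectionVars false

universe u

open CategoryTheory CategoryTheory.Limits Pretriangulated
open Groth.Agent.H16Derived
open Groth.Agent.H4DR.TorAmp (IsProjRep)

attribute [local instance] HasDerivedCategory.standard

namespace Groth.Agent.H4DR.PCColim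

variable {R : Type u} [CommRing R] {J : Type u} [SmallCategory J] [IsFiltered J]
  {F : J ⥤ ModuleCat.{u} R} {c : Cocone F} (hc : IsColimit c)

include hc

lemma exists_comp_eq_zero {N : ModuleCat.{u} R} [Module.Finite R N] {j : J} (f : N ⟶ F.obj j)
    (h : f ≫ c.ι.app j = 0) : ∃ (k : J) (a : j ⟶ k), f ≫ F.map a = 0 := by
  classical
  obtain ⟨s, hs⟩ := Module.Finite.fg_top (R := R) (M := N)
  have h' : f ≫ colimit.ι F j = 0 := by
    have e := IsColimit.comp_coconePointUniqueUpToIso_hom hc (colimit.isColimit F) j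
    simp only [colimit.cocone_ι] at e
    rw [← e, ← Category.assoc, h, zero_comp]
  obtain ⟨k, a, ha⟩ := H4LC.exists_map_finset_eq_zero F s (fun x => f.hom x)
    (fun x _ => congrArg (fun t => t.hom x) h')
  exact ⟨k, a, ModuleCat.hom_ext (LinearMap.ext_on (s := (s : Set N)) hs fun x hx => ha x hx)⟩

lemma exists_lift {N : ModuleCat.{u} R} [Module.Finite R N] [Module.Free R N] (f : N ⟶ c.pt) :
    ∃ (j : J) (g : N ⟶ F.obj j), g ≫ c.ι.app j = f := by
  classical
  let b := Module.Free.chooseBasis R N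
  choose j y hy using fun i => Concrete.isColimit_exists_rep F hc (f.hom (b i))
  obtain ⟨S, hS⟩ := IsFiltered.sup_objs_exists (Finset.univ.image j)
  have e : ∀ i, j i ⟶ S := fun i =>
    (hS (Finset.mem_image.2 ⟨i, Finset.mem_univ i, rfl⟩)).some
  refine ⟨S, ModuleCat.ofHom (b.constr R fun i => (F.map (e i)).hom (y i)),
    ModuleCat.hom_ext (b.ext fun i => ?_)⟩
  show (c.ι.app S).hom (b.constr R (fun i => (F.map (e i)).hom (y i)) (b i)) = f.hom (b i)
  rw [Module.Basis.constr_basis]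
  exact (congrArg (fun t => t.hom (y i)) (c.w (e i))).trans (hy i)

omit hc

/-- `M ↦ M⟦n⟧` is `M` in degree `-n`. -/
noncomputable def sIso (n : ℤ) :
    DerivedCategory.singleFunctor (ModuleCat.{u} R) 0 ⋙ shiftFunctor (Dual.D R) n ≅
      CochainComplex.singleFunctor (ModuleCat.{u} R) (-n) ⋙ DerivedCategory.Q :=
  (DerivedCategory.singleFunctors (ModuleCat.{u} R)).shiftIso n (-n) 0 (by omega) ≪≫
    DerivedCategory.singleFunctorIsoCompQ _ (-n)

/-- Its components. -/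
noncomputable def sApp (n : ℤ) (M : ModuleCat.{u} R) :
    (shiftFunctor (Dual.D R) n).obj (Dual.inD R M) ≅ DRing.toD (Hom.sgl (-n) M) :=
  (sIso n).app M

lemma sApp_naturality (n : ℤ) {M N : ModuleCat.{u} R} (g : M ⟶ N) :
    (sApp n M).inv ≫ (shiftFunctor (Dual.D R) n).map
        ((DerivedCategory.singleFunctor (ModuleCat.{u} R) 0).map g) =
      DerivedCategory.Q.map ((CochainComplex.singleFunctor (ModuleCat.{u} R) (-n)).map g) ≫
        (sApp n N).inv :=
  ((sIso n).inv.naturality g).symm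

lemma toSgl_comp {P : DRing.Cx R} {n : ℤ} {M N : ModuleCat.{u} R} (φ : P.X n ⟶ M)
    (h : P.d (n - 1) n ≫ φ = 0) (g : M ⟶ N) (h' : P.d (n - 1) n ≫ φ ≫ g = 0) :
    Hom.toSgl φ h ≫ (CochainComplex.singleFunctor (ModuleCat.{u} R) n).map g =
      Hom.toSgl (φ ≫ g) h' := by
  refine HomologicalComplex.to_single_hom_ext ?_
  rw [HomologicalComplex.comp_f, Hom.toSgl_f, Hom.toSgl_f]
  erw [HomologicalComplex.single_map_f_self]
  simp only [Category.assoc]
  exact congrArg (φ ≫ ·) (Iso.inv_hom_id_assoc _ _)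

lemma exists_toSgl_shift {P : DRing.Cx R} {b : ℤ} (hP : IsProjRep P b) (n : ℤ)
    {M : ModuleCat.{u} R} (x : DRing.toD P ⟶ (shiftFunctor (Dual.D R) n).obj (Dual.inD R M)) :
    ∃ (φ : P.X (-n) ⟶ M) (h : P.d (-n - 1) (-n) ≫ φ = 0),
      x = DerivedCategory.Q.map (Hom.toSgl φ h) ≫ (sApp n M).inv := by
  obtain ⟨φ, h, e⟩ := Hom.exists_toSgl hP (x ≫ (sApp n M).hom)
  refine ⟨φ, h, ?_⟩
  exact ((congrArg (· ≫ (sApp n M).inv) e).trans ((Category.assoc _ _ _).trans
    ((congrArg (x ≫ ·) (sApp n M).hom_inv_id).trans (Category.comp_id x)))).symm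

lemma toSgl_shift_comp {P : DRing.Cx R} (n : ℤ) {M N : ModuleCat.{u} R} (φ : P.X (-n) ⟶ M)
    (h : P.d (-n - 1) (-n) ≫ φ = 0) (g : M ⟶ N) (h' : P.d (-n - 1) (-n) ≫ φ ≫ g = 0) :
    (DerivedCategory.Q.map (Hom.toSgl φ h) ≫ (sApp n M).inv) ≫
        (shiftFunctor (Dual.D R) n).map ((DerivedCategory.singleFunctor _ 0).map g) =
      DerivedCategory.Q.map (Hom.toSgl (φ ≫ g) h') ≫ (sApp n N).inv := by
  refine (Category.assoc _ _ _).trans ?_
  refine (congrArg (DerivedCategory.Q.map (Hom.toSgl φ h) ≫ ·) (sApp_naturality n g)).trans ?_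
  refine ((Category.assoc _ _ _).symm).trans ?_
  exact congrArg (· ≫ (sApp n N).inv) ((DerivedCategory.Q.map_comp _ _).symm.trans
    (congrArg DerivedCategory.Q.map (toSgl_comp φ h g h')))

include hc

theorem surj_of_rep {P : DRing.Cx R} {b : ℤ} (hP : IsProjRep P b)
    (hff : DRing.TermwiseFiniteFree P) (n : ℤ)
    (x : DRing.toD P ⟶ (shiftFunctor (Dual.D R) n).obj (Dual.inD R c.pt)) :
    ∃ (j : J) (y : DRing.toD P ⟶ (shiftFunctor (Dual.D R) n).obj (Dual.inD R (F.obj j))),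
      y ≫ (shiftFunctor (Dual.D R) n).map
        ((DerivedCategory.singleFunctor (ModuleCat.{u} R) 0).map (c.ι.app j)) = x := by
  obtain ⟨φ, h, rfl⟩ := exists_toSgl_shift hP n x
  haveI := (hff (-n)).1
  haveI := (hff (-n)).2
  haveI := (hff (-n - 1)).1
  obtain ⟨j, g, rfl⟩ := exists_lift hc φ
  obtain ⟨k, a, ha⟩ := exists_comp_eq_zero hc (P.d (-n - 1) (-n) ≫ g)
    (by rw [Category.assoc, h])
  rw [Category.assoc] at ha
  refine ⟨k, DerivedCategory.Q.map (Hom.toSgl (g ≫ F.map a) ha) ≫ (sApp n _).inv, ?_⟩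
  have e : (g ≫ F.map a) ≫ c.ι.app k = g ≫ c.ι.app j := by rw [Category.assoc, c.w]
  rw [toSgl_shift_comp n _ ha (c.ι.app k) (by rw [e, h])]
  congr 2
  exact HomologicalComplex.to_single_hom_ext (by rw [Hom.toSgl_f, Hom.toSgl_f, e]; rfl)

theorem inj_of_rep {P : DRing.Cx R} {b : ℤ} (hP : IsProjRep P b)
    (hff : DRing.TermwiseFiniteFree P) (n : ℤ) (j : J)
    (y : DRing.toD P ⟶ (shiftFunctor (Dual.D R) n).obj (Dual.inD R (F.obj j)))
    (hy : y ≫ (shiftFunctor (Dual.D R) n).map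
      ((DerivedCategory.singleFunctor (ModuleCat.{u} R) 0).map (c.ι.app j)) = 0) :
    ∃ (k : J) (a : j ⟶ k), y ≫ (shiftFunctor (Dual.D R) n).map
      ((DerivedCategory.singleFunctor (ModuleCat.{u} R) 0).map (F.map a)) = 0 := by
  obtain ⟨φ, h, rfl⟩ := exists_toSgl_shift hP n y
  have h' : P.d (-n - 1) (-n) ≫ φ ≫ c.ι.app j = 0 := by rw [← Category.assoc, h, zero_comp]
  rw [toSgl_shift_comp n φ h _ h'] at hy
  have h0 : DerivedCategory.Q.map (Hom.toSgl (φ ≫ c.ι.app j) h') = 0 :=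
    (cancel_mono ((sApp n c.pt).inv)).1 (hy.trans zero_comp.symm)
  obtain ⟨k, hk⟩ := (Hom.Q_toSgl_eq_zero_iff hP _ h').1 h0
  haveI := (hff (-n)).1
  haveI := (hff (-n + 1)).1
  haveI := (hff (-n + 1)).2
  obtain ⟨j₁, k', rfl⟩ := exists_lift hc k
  let j₂ := IsFiltered.max j j₁
  let f₀ : j ⟶ j₂ := IsFiltered.leftToMax j j₁
  let f₁ : j₁ ⟶ j₂ := IsFiltered.rightToMax j j₁
  obtain ⟨j₃, f, hf⟩ := exists_comp_eq_zero hc
    (φ ≫ F.map f₀ - P.d (-n) (-n + 1) ≫ k' ≫ F.map f₁)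
    (by simp only [Preadditive.sub_comp, Category.assoc, c.w]; rw [hk, sub_self])
  refine ⟨j₃, f₀ ≫ f, ?_⟩
  have h'' : P.d (-n - 1) (-n) ≫ φ ≫ F.map (f₀ ≫ f) = 0 := by
    rw [← Category.assoc, h, zero_comp]
  rw [toSgl_shift_comp n φ h _ h'', Hom.Q_toSgl_eq_zero (k' ≫ F.map (f₁ ≫ f)) ?_]
  · exact zero_comp
  · simp only [Preadditive.sub_comp, Category.assoc, sub_eq_zero] at hf
    simpa only [Functor.map_comp, Category.assoc] using hf

omit hc

lemma hom_eq_zero_of_vanish (C : Dual.D R) (M : ModuleCat.{u} R) (m n : ℤ) (hn : n ≤ -m)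
    (hC : ∀ i, m ≤ i → Subsingleton (Dual.HD R C i))
    (f : C ⟶ (shiftFunctor (Dual.D R) n).obj (Dual.inD R M)) : f = 0 :=
  Hom.eq_zero_of_lt (m - 1) (-n) (by omega) (fun i hi => hC i (by omega))
    (fun i hi => Hom.subsingleton_shift_inD M n i (by omega)) f

end Groth.Agent.H4DR.PCColim
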