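import Groth.Agent.H4DR.Hom.TwoTerm
import Groth.Agent.H16Derived.AcyclicLES
import Mathlib.Algebra.Homology.HomotopyCategory.Pretriangulated

/-!
# Morphisms from complexes `≤ 0` with projective top term to complexes `≥ -1`
-/

set_option autoImplicit false
set_option linter.style.haveILetI false

universe u

open CategoryTheory CategoryTheory.Limits Pretriangulated
open Groth.Agent.H16Derived

attribute [local instance] HasDerivedCategory.standard

namespace Groth.Agent.H4DR.Hom

open Groth.Agent.H4DR.TorAmp (IsProjRep)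

variable {R : Type u} [CommRing R]

/-- An acyclic complex `≤ 1` with projective top term has no maps up to homotopy to complexes `≥ -1`. -/
theorem homotopic_zero_of_acyclic {C K : DRing.Cx R} (hC : ∀ i : ℤ, 1 < i → IsZero (C.X i))
    (hC1 : Module.Projective R (C.X 1)) (hac : C.Acyclic) (hK : ∀ i : ℤ, i ≤ -2 → IsZero (K.X i))
    (f : C ⟶ K) : Nonempty (Homotopy f 0) := by
  let d1 := (C.d 0 1).hom
  let d0 := (C.d (-1) 0).hom
  let dm := (C.d (-2) (-1)).hom
  have ex : ∀ i j k : ℤ, i + 1 = j → j + 1 = k → Function.Exact (C.d i j).hom (C.d j k).hom := fun i j k h h' => by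
    have := (HomologicalComplex.exactAt_iff' C i j k (by simp; omega) (by simp; omega)).1 (hac j)
    rwa [ShortComplex.ShortExact.moduleCat_exact_iff_function_exact] at this
  have hsurj : Function.Surjective d1 := fun y =>
    (ex 0 1 2 (by omega) (by omega) y).1 (by
      haveI := ModuleCat.subsingleton_of_isZero (hC 2 (by omega))
      exact Subsingleton.elim _ _)
  obtain ⟨s, hs⟩ := Module.projective_lifting_property d1 LinearMap.id hsurj
  let p : C.X 0 →ₗ[R] LinearMap.range d0 := (LinearMap.id - s ∘ₗ d1).codRestrict _ fun x =>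
    (ex (-1) 0 1 (by omega) (by omega) _).1
      (show d1 (x - s (d1 x)) = 0 by rw [map_sub, ← LinearMap.comp_apply d1 s, hs, LinearMap.id_apply, sub_self])
  have hle : LinearMap.ker d0 ≤ LinearMap.ker (f.f (-1)).hom := fun x hx => by
    obtain ⟨y, rfl⟩ := (ex (-2) (-1) 0 (by omega) (by omega) x).1 (LinearMap.mem_ker.1 hx)
    have h := congr($(f.comm (-2) (-1)).hom y)
    haveI := ModuleCat.subsingleton_of_isZero (hK (-2) le_rfl)
    refine LinearMap.mem_ker.2 (h.symm.trans ?_)
    show (K.d (-2) (-1)).hom ((f.f (-2)).hom y) = 0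
    rw [Subsingleton.elim ((f.f (-2)).hom y) 0, map_zero]
  let h₀ : C.X 0 →ₗ[R] K.X (-1) :=
    Submodule.liftQ _ (f.f (-1)).hom hle ∘ₗ d0.quotKerEquivRange.symm.toLinearMap ∘ₗ p
  have h₀d : ∀ x, h₀ (d0 x) = (f.f (-1)).hom x := fun x => by
    have hp : p (d0 x) = ⟨d0 x, LinearMap.mem_range_self d0 x⟩ := Subtype.ext (by
      show d0 x - s (d1 (d0 x)) = d0 x
      rw [show d1 (d0 x) = 0 from congr($(C.d_comp_d (-1) 0 1).hom x), map_zero, sub_zero])
    show Submodule.liftQ _ (f.f (-1)).hom hle (d0.quotKerEquivRange.symm (p (d0 x))) = _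
    rw [hp, LinearMap.quotKerEquivRange_symm_apply_image, Submodule.mkQ_apply, Submodule.liftQ_apply]
  let kd := (K.d (-1) 0).hom
  let h₁ : C.X 1 →ₗ[R] K.X 0 := ((f.f 0).hom - kd ∘ₗ h₀) ∘ₗ s
  have hf0 : ∀ x, (f.f 0).hom x = kd (h₀ x) + h₁ (d1 x) := fun x => by
    obtain ⟨y, hy⟩ := (ex (-1) 0 1 (by omega) (by omega) (x - s (d1 x))).1
      (show d1 (x - s (d1 x)) = 0 by rw [map_sub, ← LinearMap.comp_apply d1 s, hs, LinearMap.id_apply, sub_self])
    have key : (f.f 0).hom (x - s (d1 x)) - kd (h₀ (x - s (d1 x))) = 0 := by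
      rw [← hy, h₀d, sub_eq_zero]
      exact (congr($(f.comm (-1) 0).hom y)).symm
    rw [map_sub, map_sub, map_sub] at key
    show _ = _ + ((f.f 0).hom (s (d1 x)) - kd (h₀ (s (d1 x))))
    rw [← sub_eq_zero, ← key]
    abel
  have hf1 : ∀ y, (f.f 1).hom y = (K.d 0 1).hom (h₁ y) := fun y => by
    obtain ⟨x, rfl⟩ := hsurj y
    refine (congr($(f.comm 0 1).hom x)).symm.trans ?_
    show (K.d 0 1).hom ((f.f 0).hom x) = _
    rw [hf0, map_add, show (K.d 0 1).hom (kd (h₀ x)) = 0 from congr($(K.d_comp_d (-1) 0 1).hom (h₀ x)),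
      zero_add]
  let hh : ∀ i j, (ComplexShape.up ℤ).Rel j i → (C.X i ⟶ K.X j) := fun i j hij =>
    if h : j = 0 then
      (C.XIsoOfEq (show i = 1 by have : j + 1 = i := hij; omega)).hom ≫ ModuleCat.ofHom h₁ ≫
        (K.XIsoOfEq h.symm).hom
    else if h' : j = -1 then
      (C.XIsoOfEq (show i = 0 by have : j + 1 = i := hij; omega)).hom ≫ ModuleCat.ofHom h₀ ≫
        (K.XIsoOfEq h'.symm).hom
    else 0
  have e : f = Homotopy.nullHomotopicMap' hh := by
    refine HomologicalComplex.hom_ext _ _ fun i => ?_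
    rw [Homotopy.nullHomotopicMap'_f (show (ComplexShape.up ℤ).Rel (i - 1) i by simp)
      (show (ComplexShape.up ℤ).Rel i (i + 1) by simp)]
    rcases (show i < -1 ∨ i = -1 ∨ i = 0 ∨ i = 1 ∨ 1 < i by omega) with h | rfl | rfl | rfl | h
    · exact (hK i (by omega)).eq_of_tgt _ _
    · refine ModuleCat.hom_ext (LinearMap.ext fun x => ?_)
      simp [hh]
      exact (h₀d x).symm
    · refine ModuleCat.hom_ext (LinearMap.ext fun x => ?_)
      simp [hh]
      exact (hf0 x).trans (add_comm _ _)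
    · refine ModuleCat.hom_ext (LinearMap.ext fun x => ?_)
      simp [hh]
      exact hf1 x
    · exact (hC i h).eq_of_src _ _
  rw [e]
  exact ⟨Homotopy.nullHomotopy' hh⟩

lemma quotient_map_eq_zero {C K : DRing.Cx R} (h : ∀ f : C ⟶ K, Nonempty (Homotopy f 0))
    (φ : (HomotopyCategory.quotient (ModuleCat.{u} R) (ComplexShape.up ℤ)).obj C ⟶
      (HomotopyCategory.quotient (ModuleCat.{u} R) (ComplexShape.up ℤ)).obj K) : φ = 0 := by
  obtain ⟨f, rfl⟩ := (HomotopyCategory.quotient _ _).map_surjective φ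
  obtain ⟨H⟩ := h f
  rw [HomotopyCategory.eq_of_homotopy _ _ H, Functor.map_zero]

theorem bijective_Qh_map (M K : DRing.Cx R) (hM : ∀ i : ℤ, 0 < i → IsZero (M.X i))
    (hM0 : Module.Projective R (M.X 0)) (hK : ∀ i : ℤ, i ≤ -2 → IsZero (K.X i)) :
    Function.Bijective (fun φ : (HomotopyCategory.quotient (ModuleCat.{u} R) (ComplexShape.up ℤ)).obj M ⟶
        (HomotopyCategory.quotient (ModuleCat.{u} R) (ComplexShape.up ℤ)).obj K =>
      DerivedCategory.Qh.map φ) := by
  obtain ⟨P, hP, ⟨e⟩⟩ := TorAmp.exists_projRep (c := 0) (K := DRing.toD M) fun i hi =>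
    ModuleCat.subsingleton_of_isZero (((HomologicalComplex.exactAt_iff _ _).2
      (ShortComplex.exact_of_isZero_X₂ _ (hM i hi))).isZero_homology.of_iso
        ((DerivedCategory.homologyFunctorFactors (ModuleCat.{u} R) i).app M))
  obtain ⟨π, hπ, -⟩ := TorAmp.exists_qis hP e
  haveI := hπ
  haveI := hP.isKProjective
  let q := HomotopyCategory.quotient (ModuleCat.{u} R) (ComplexShape.up ℤ)
  let C := CochainComplex.mappingCone π
  have hac : C.Acyclic := (AcyclicLES.quasiIso_iff_acyclic_mappingCone π).1 hπ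
  have hC : ∀ i : ℤ, 0 < i → IsZero (C.X i) := fun i hi => IsZero.of_iso
    ((biprod_isZero_iff _ _).2 ⟨hP.above (i + 1) (by omega), hM i hi⟩)
    (HomologicalComplex.homotopyCofiber.XIsoBiprod π i (i + 1) rfl)
  have hC0 : Module.Projective R (C.X 0) := Module.Projective.of_equiv
    ((HomologicalComplex.homotopyCofiber.XIsoBiprod π 0 (0 + 1) rfl) ≪≫
      (isoZeroBiprod (hP.above (0 + 1) (by omega))).symm).toLinearEquiv.symm
  haveI := ModuleCat.subsingleton_of_isZero (hC 1 one_pos)
  have h3 := quotient_map_eq_zero (homotopic_zero_of_acyclic (K := K) (fun i hi => hC i (by omega))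
    inferInstance hac hK)
  let T := CochainComplex.mappingCone.triangleh π
  have hT : T ∈ distTriang _ := HomotopyCategory.mappingCone_triangleh_distinguished π
  have hbij := CochainComplex.IsKProjective.Qh_map_bijective P (q.obj K)
  refine ⟨fun φ φ' h => ?_, fun x => ?_⟩
  · have h1 : q.map π ≫ (φ - φ') = 0 := by
      rw [Preadditive.comp_sub, sub_eq_zero]
      exact hbij.1 (by simp only [Functor.map_comp]; exact congrArg (_ ≫ ·) h)
    obtain ⟨η, hη⟩ := Triangle.yoneda_exact₂ T hT (φ - φ') h1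
    rw [← sub_eq_zero, hη, h3 η]
    exact comp_zero
  · obtain ⟨g, hg⟩ := hbij.2 (DerivedCategory.Qh.map (q.map π) ≫ x)
    have hC1 : Module.Projective R ((C⟦(-1 : ℤ)⟧).X 1) :=
      show Module.Projective R (C.X (1 + -1)) by rw [show (1 : ℤ) + -1 = 0 from rfl]; exact hC0
    have h4 : ∀ η : (q.obj C)⟦(-1 : ℤ)⟧ ⟶ q.obj K, η = 0 := fun η => by
      apply (cancel_epi ((q.commShiftIso (-1 : ℤ)).app C).hom).1
      rw [comp_zero]
      refine quotient_map_eq_zero (homotopic_zero_of_acyclic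
        (fun i hi => show IsZero (C.X (i + -1)) from hC _ (by omega)) hC1 (fun i => ?_) hK) _
      rw [HomologicalComplex.exactAt_iff_isZero_homology]
      exact (hac (i + -1)).isZero_homology.of_iso
        (((HomologicalComplex.homologyFunctor (ModuleCat.{u} R) (ComplexShape.up ℤ) 0).shiftIso (-1) i
          (i + -1) (by omega)).app C)
    obtain ⟨ψ, hψ⟩ := Triangle.yoneda_exact₂ T.invRotate (inv_rot_of_distTriang _ hT) g
      ((congrArg (_ ≫ ·) rfl).trans (h4 _))
    refine ⟨ψ, ?_⟩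
    haveI : IsIso (DerivedCategory.Qh.map (q.map π)) :=
      (NatIso.isIso_map_iff (DerivedCategory.quotientCompQhIso (ModuleCat.{u} R)) π).2
        ((DerivedCategory.isIso_Q_map_iff_quasiIso (φ := π)).2 hπ)
    apply (cancel_epi (DerivedCategory.Qh.map (q.map π))).1
    rw [← hg, hψ]
    exact (DerivedCategory.Qh.map_comp (q.map π) ψ).symm

end Groth.Agent.H4DR.Hom
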